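/-
Doubly transitive groups whose two-point stabilisers are isomorphic to `A₄` (S3219): definitions
and the structure of the two-point stabilisers.
-/
import Cfsg.Agent.H12.Har3
import Cfsg.Agent.KOS.Basic

set_option autoImplicit false

namespace Cfsg.Agent.TA4

open Cfsg MulAction H12

variable {G Ω : Type*} [Group G] [MulAction G Ω]

/-- A frame of the stabiliser of `a` and `b`: the four-group `{1, t, u, t u}` and an element `h`
of order three. -/
structure Fr (a b : Ω) (t u h : G) : Prop where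
  ne : a ≠ b
  ta : t • a = a
  tb : t • b = b
  ua : u • a = a
  ub : u • b = b
  ha : h • a = a
  hb : h • b = b
  t2 : t * t = 1
  u2 : u * u = 1
  t1 : t ≠ 1
  u1 : u ≠ 1
  ut : u ≠ t
  comm : t * u = u * t
  h3 : h * h * h = 1
  ht : h * t * h⁻¹ = u
  hu : h * u * h⁻¹ = t * u
  all : ∀ x : G, x • a = a → x • b = b → ∃ v : G, (v = 1 ∨ v = t ∨ v = u ∨ v = t * u) ∧
    (x = v ∨ x = v * h ∨ x = v * h⁻¹)

/-- faithful, doubly transitive, two-point stabilisers `A₄` -/
structure A4 (G Ω : Type*) [Group G] [MulAction G Ω] : Prop extends T2 G Ω where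
  fr : ∃ (a b : Ω) (t u h : G), Fr a b t u h

/-- involutions fixing at least two points -/
def D (Ω : Type*) {G : Type*} [Group G] [MulAction G Ω] (x : G) : Prop :=
  x ≠ 1 ∧ x * x = 1 ∧ ∃ a b : Ω, a ≠ b ∧ x • a = a ∧ x • b = b

/-- `f` points are fixed by an involution, `e` points by the four-group of a frame -/
structure Par (G Ω : Type*) [Group G] [MulAction G Ω] (f e : ℕ) : Prop extends A4 G Ω where
  cf : ∀ {t : G}, D Ω t → Nat.card {c : Ω // t • c = c} = f
  ce : ∀ {a b : Ω} {t u h : G}, Fr a b t u h → Nat.card {c : Ω // t • c = c ∧ u • c = c} = e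

/-- the involutions interchanging two points centralise the four-group (type `A₄ × 2`) -/
def TyP (G Ω : Type*) [Group G] [MulAction G Ω] : Prop :=
  ∀ {a b : Ω} {t u h s : G}, Fr a b t u h → s * s = 1 → s • a = b → s * t = t * s

/-- the involutions interchanging two points do not centralise the four-group (type `S₄`) -/
def TyS (G Ω : Type*) [Group G] [MulAction G Ω] : Prop :=
  ∀ {a b : Ω} {t u h s : G}, Fr a b t u h → s * s = 1 → s • a = b →
    ¬ (s * t = t * s ∧ s * u = u * s)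

/-- every involution fixes two points -/
def AllD (G Ω : Type*) [Group G] [MulAction G Ω] : Prop :=
  ∀ x : G, x * x = 1 → x ≠ 1 → D Ω x

/-- the involution interchanging two points and centralising their stabiliser fixes two points -/
def S0D (G Ω : Type*) [Group G] [MulAction G Ω] : Prop :=
  ∀ {a b : Ω} {t u h s : G}, Fr a b t u h → s * s = 1 → s • a = b → s * h = h * s → D Ω s

/-- exactly the three other involutions interchanging two points fix two points -/
def P3 (G Ω : Type*) [Group G] [MulAction G Ω] : Prop :=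
  ∀ {a b : Ω} {t u h s : G}, Fr a b t u h → s * s = 1 → s • a = b → (D Ω s ↔ s * h ≠ h * s)

/-- the centraliser of `t` in the normaliser of `{1, t, u, t u}` -/
def Yt (t u : G) : Subgroup G := Ct t ⊓ Subgroup.normalizer ({u, t * u} : Set G)

theorem D.conj {t : G} (ht : D Ω t) (k : G) : D Ω (k * t * k⁻¹) := by
  obtain ⟨h1, h2, a, b, hab, ha, hb⟩ := ht
  exact ⟨by simpa using h1, H42.conj_mul_self h2 k, k • a, k • b,
    fun e => hab (MulAction.injective k e), conj_fix ha, conj_fix hb⟩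

theorem D_conj_iff {t k : G} : D Ω (k * t * k⁻¹) ↔ D Ω t :=
  ⟨fun h => by simpa [mul_assoc] using h.conj k⁻¹, fun h => h.conj k⟩

theorem D.order {t : G} (ht : D Ω t) : orderOf t = 2 :=
  orderOf_eq_prime (by rw [sq, ht.2.1]) ht.1

theorem conj_eq_iff {g x : G} : g * x * g⁻¹ = x ↔ g * x = x * g := mul_inv_eq_iff_eq_mul

namespace Fr

variable {a b : Ω} {t u h : G} (F : Fr a b t u h)
include F

theorem ti : t⁻¹ = t := inv_eq_of_mul_eq_one_right F.t2
theorem ui : u⁻¹ = u := inv_eq_of_mul_eq_one_right F.u2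
theorem ttu : t * (t * u) = u := by rw [← mul_assoc, F.t2, one_mul]
theorem utu : u * (t * u) = t := by rw [F.comm, ← mul_assoc, F.u2, one_mul]
theorem tut : t * u * t = u := by rw [F.comm, mul_assoc, F.t2, mul_one]
theorem tuu : t * u * u = t := by rw [mul_assoc, F.u2, mul_one]
theorem tu2 : t * u * (t * u) = 1 := by rw [mul_assoc, F.utu, F.t2]
theorem tu1 : t * u ≠ 1 := fun e => F.ut (by rw [← F.ttu, e, mul_one])
theorem tu_t : t * u ≠ t := fun e => F.u1 (by simpa using e)
theorem tu_u : t * u ≠ u := fun e => F.t1 (by simpa using e)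
theorem tua : (t * u) • a = a := by rw [mul_smul, F.ua, F.ta]
theorem tub : (t * u) • b = b := by rw [mul_smul, F.ub, F.tb]
theorem htu : h * (t * u) * h⁻¹ = t := by
  rw [show h * (t * u) * h⁻¹ = h * t * h⁻¹ * (h * u * h⁻¹) by group, F.ht, F.hu, F.utu]
theorem hh : h * h = h⁻¹ := eq_inv_of_mul_eq_one_left F.h3
theorem hihi : h⁻¹ * h⁻¹ = h := by rw [← mul_inv_rev, F.hh, inv_inv]
theorem h1 : h ≠ 1 := fun e => F.ut (by simpa [e] using F.ht.symm)
theorem hit : h⁻¹ * t * h⁻¹⁻¹ = t * u :=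
  (congrArg (fun x => h⁻¹ * x * h⁻¹⁻¹) F.htu.symm).trans (by group)
theorem hiu : h⁻¹ * u * h⁻¹⁻¹ = t := by rw [← F.ht]; group
theorem hitu : h⁻¹ * (t * u) * h⁻¹⁻¹ = u := by rw [← F.hu]; group
theorem Dt : D Ω t := ⟨F.t1, F.t2, a, b, F.ne, F.ta, F.tb⟩
theorem Du : D Ω u := ⟨F.u1, F.u2, a, b, F.ne, F.ua, F.ub⟩
theorem Dtu : D Ω (t * u) := ⟨F.tu1, F.tu2, a, b, F.ne, F.tua, F.tub⟩
theorem h_pow : h ^ 3 = 1 := by rw [pow_three, ← mul_assoc, F.h3]
theorem h_order : orderOf h = 3 := orderOf_eq_prime F.h_pow F.h1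

theorem symm : Fr b a t u h :=
  { F with
    ne := F.ne.symm, ta := F.tb, tb := F.ta, ua := F.ub, ub := F.ua, ha := F.hb, hb := F.ha
    all := fun x h1 h2 => F.all x h2 h1 }

theorem rot : Fr a b u (t * u) h :=
  { F with
    ta := F.ua, tb := F.ub, ua := F.tua, ub := F.tub, t2 := F.u2, u2 := F.tu2, t1 := F.u1
    u1 := F.tu1, ut := F.tu_u, comm := by rw [F.utu, F.tuu], ht := F.hu
    hu := by rw [F.htu, F.utu]
    all := fun x h1 h2 => by
      obtain ⟨v, hv, hx⟩ := F.all x h1 h2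
      exact ⟨v, by rw [F.utu]; tauto, hx⟩ }

theorem flip : Fr a b t (t * u) h⁻¹ :=
  { F with
    ua := F.tua, ub := F.tub, ha := by rw [inv_smul_eq_iff, F.ha], hb := by rw [inv_smul_eq_iff, F.hb]
    u2 := F.tu2, u1 := F.tu1, ut := F.tu_t, comm := by rw [F.ttu, F.tut]
    h3 := by rw [F.hihi, mul_inv_cancel], ht := F.hit, hu := by rw [F.hitu, F.ttu]
    all := fun x h1 h2 => by
      obtain ⟨v, hv, hx⟩ := F.all x h1 h2
      exact ⟨v, by rw [F.ttu]; tauto, by rw [inv_inv]; tauto⟩ }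

theorem conj (k : G) : Fr (k • a) (k • b) (k * t * k⁻¹) (k * u * k⁻¹) (k * h * k⁻¹) where
  ne := fun e => F.ne (MulAction.injective k e)
  ta := conj_fix F.ta
  tb := conj_fix F.tb
  ua := conj_fix F.ua
  ub := conj_fix F.ub
  ha := conj_fix F.ha
  hb := conj_fix F.hb
  t2 := H42.conj_mul_self F.t2 k
  u2 := H42.conj_mul_self F.u2 k
  t1 := by simpa using F.t1
  u1 := by simpa using F.u1
  ut := by simpa using F.ut
  comm := by rw [conj_mul, conj_mul, F.comm]
  h3 := by rw [conj_mul, conj_mul, F.h3, mul_one, mul_inv_cancel]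
  ht := by rw [conj_inv, conj_mul, conj_mul, F.ht]
  hu := by rw [conj_inv, conj_mul, conj_mul, conj_mul, F.hu]
  all := fun x h1 h2 => by
    obtain ⟨v, hv, hx⟩ := F.all (k⁻¹ * x * k) (by rw [mul_smul, mul_smul, h1, inv_smul_smul])
      (by rw [mul_smul, mul_smul, h2, inv_smul_smul])
    have e : x = k * (k⁻¹ * x * k) * k⁻¹ := by group
    refine ⟨k * v * k⁻¹, ?_, ?_⟩
    · rw [conj_mul]
      rcases hv with rfl | rfl | rfl | rfl <;> simp
    · rw [conj_inv, conj_mul, conj_mul, e]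
      rcases hx with hx | hx | hx <;> simp [hx]

theorem v_comm {v w : G} (hv : v = 1 ∨ v = t ∨ v = u ∨ v = t * u)
    (hw : w = 1 ∨ w = t ∨ w = u ∨ w = t * u) : v * w = w * v := by
  rcases hv with rfl | rfl | rfl | rfl <;> rcases hw with rfl | rfl | rfl | rfl <;>
    simp only [one_mul, mul_one, F.comm.symm, F.ttu, F.tut, F.utu, F.tuu]

theorem v_sq {v : G} (hv : v = 1 ∨ v = t ∨ v = u ∨ v = t * u) : v * v = 1 := by
  rcases hv with rfl | rfl | rfl | rfl
  exacts [one_mul 1, F.t2, F.u2, F.tu2]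

theorem v_mul {v w : G} (hv : v = 1 ∨ v = t ∨ v = u ∨ v = t * u)
    (hw : w = 1 ∨ w = t ∨ w = u ∨ w = t * u) :
    v * w = 1 ∨ v * w = t ∨ v * w = u ∨ v * w = t * u := by
  rcases hv with rfl | rfl | rfl | rfl <;> rcases hw with rfl | rfl | rfl | rfl <;>
    simp only [one_mul, mul_one, F.comm.symm, F.ttu, F.tut, F.utu, F.tuu, F.t2, F.u2, F.tu2,
      true_or, or_true]

theorem v_fix {v : G} (hv : v = 1 ∨ v = t ∨ v = u ∨ v = t * u) {c : Ω} (tc : t • c = c)
    (uc : u • c = c) : v • c = c := by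
  rcases hv with rfl | rfl | rfl | rfl
  exacts [one_smul _ _, tc, uc, by rw [mul_smul, uc, tc]]

/-- the action of an element of the stabiliser on the four-group -/
theorem act {x : G} (xa : x • a = a) (xb : x • b = b) :
    (x = 1 ∨ x = t ∨ x = u ∨ x = t * u) ∨ (x * t * x⁻¹ = u ∧ x * u * x⁻¹ = t * u) ∨
      (x * t * x⁻¹ = t * u ∧ x * u * x⁻¹ = t) := by
  obtain ⟨v, hv, hx⟩ := F.all x xa xb
  have key : ∀ w : G, (w = 1 ∨ w = t ∨ w = u ∨ w = t * u) → v * w * v⁻¹ = w := fun w hw =>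
    conj_eq_iff.2 (F.v_comm hv hw)
  have e : ∀ k y : G, v * k * y * (v * k)⁻¹ = v * (k * y * k⁻¹) * v⁻¹ := fun k y => by group
  rcases hx with rfl | rfl | rfl
  · exact Or.inl hv
  · rw [e, e, F.ht, F.hu, key, key] <;> simp
  · rw [e, e, F.hit, F.hiu, key, key] <;> simp

theorem cent {x : G} (xa : x • a = a) (xb : x • b = b) (hx : x * t = t * x) :
    x = 1 ∨ x = t ∨ x = u ∨ x = t * u := by
  rcases F.act xa xb with e | e | e
  · exact e
  · exact absurd (e.1.symm.trans (conj_eq_iff.2 hx)) F.ut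
  · exact absurd (e.1.symm.trans (conj_eq_iff.2 hx)) F.tu_t

theorem inV {x : G} (xa : x • a = a) (xb : x • b = b) (hx : x * x = 1) :
    x = 1 ∨ x = t ∨ x = u ∨ x = t * u := by
  have e : t = x * (x * t * x⁻¹) * x⁻¹ := by
    rw [show x * (x * t * x⁻¹) * x⁻¹ = x * x * t * (x * x)⁻¹ by group, hx]; simp
  rcases F.act xa xb with e1 | e1 | e1
  · exact e1
  · rw [e1.1, e1.2] at e
    exact absurd e.symm F.tu_t
  · rw [e1.1, ← conj_mul, e1.1, e1.2, F.tut] at e
    exact absurd e.symm F.ut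

/-- an element of the stabiliser outside the four-group has order three -/
theorem cube {x : G} (xa : x • a = a) (xb : x • b = b) :
    (x = 1 ∨ x = t ∨ x = u ∨ x = t * u) ∨ x * x * x = 1 := by
  obtain ⟨v, hv, hx⟩ := F.all x xa xb
  have e : ∀ k : G, v * k * (v * k) * (v * k) =
      v * (k * v * k⁻¹) * (k * (k * v * k⁻¹) * k⁻¹) * (k * k * k) := fun k => by group
  rcases hx with rfl | rfl | rfl
  · exact Or.inl hv
  · right
    rw [e, F.h3]
    rcases hv with rfl | rfl | rfl | rfl <;>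
      simp only [F.ht, F.hu, F.htu, mul_one, mul_inv_cancel, F.tu2, F.utu, F.t2, F.tut, F.u2]
  · right
    rw [e, F.flip.h3]
    rcases hv with rfl | rfl | rfl | rfl <;>
      simp only [F.hit, F.hiu, F.hitu, mul_one, mul_inv_cancel, F.tu2, F.ttu, F.u2, F.tuu, F.t2,
        F.comm.symm]

/-- the centraliser of `h` in the stabiliser -/
theorem cent_h {x : G} (xa : x • a = a) (xb : x • b = b) (hx : x * h = h * x) :
    x = 1 ∨ x = h ∨ x = h⁻¹ := by
  obtain ⟨v, hv, e⟩ := F.all x xa xb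
  have : h * v * h⁻¹ = v := by
    rw [conj_eq_iff]
    rcases e with rfl | rfl | rfl
    · exact hx.symm
    · rw [← mul_assoc] at hx
      exact (mul_right_cancel hx).symm
    · rw [inv_mul_cancel_right] at hx
      exact ((eq_mul_inv_iff_mul_eq.1 (hx.trans (mul_assoc _ _ _).symm))).symm
  rcases hv with rfl | rfl | rfl | rfl
  · simpa using e
  · exact absurd (F.ht.symm.trans this) F.ut
  · exact absurd (F.hu.symm.trans this) F.tu_u
  · exact absurd (F.htu.symm.trans this).symm F.tu_t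

theorem mem_Yt {g : G} :
    g ∈ Yt t u ↔ g * t = t * g ∧ (g * u * g⁻¹ = u ∨ g * u * g⁻¹ = t * u) := by
  refine and_congr mem_Ct Iff.rfl |>.trans (and_congr_right fun hg => ?_)
  have e : g * (t * u) * g⁻¹ = t * (g * u * g⁻¹) := by rw [← conj_mul, conj_eq_iff.2 hg]
  constructor
  · intro h
    exact (h u).1 (Or.inl rfl)
  · intro h n
    constructor
    · rintro (rfl | rfl)
      · exact h
      · rw [e]
        rcases h with h | h <;> rw [h]
        · exact Or.inr rfl
        · exact Or.inl F.ttu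
    · intro hn
      have inj : ∀ x y : G, g * x * g⁻¹ = g * y * g⁻¹ → x = y := fun x y h => by simpa using h
      rcases h with h | h <;> rcases hn with hn | hn
      · exact Or.inl (inj _ _ (hn.trans h.symm))
      · exact Or.inr (inj _ _ (by rw [e, h]; exact hn))
      · exact Or.inr (inj _ _ (by rw [e, h, F.ttu]; exact hn))
      · exact Or.inl (inj _ _ (hn.trans h.symm))

/-- a frame adapted to two given involutions -/
theorem adapt {x y : G} (xa : x • a = a) (xb : x • b = b) (x2 : x * x = 1) (x1 : x ≠ 1)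
    (ya : y • a = a) (yb : y • b = b) (y2 : y * y = 1) (y1 : y ≠ 1) (yx : y ≠ x) :
    ∃ k : G, (k = h ∨ k = h⁻¹) ∧ Fr a b x y k := by
  have r2 : Fr a b (t * u) t h := by simpa only [F.utu] using F.rot.rot
  rcases F.inV xa xb x2 with rfl | rfl | rfl | rfl <;>
    rcases F.inV ya yb y2 with rfl | rfl | rfl | rfl <;> try contradiction
  · exact ⟨_, Or.inl rfl, F⟩
  · exact ⟨_, Or.inr rfl, F.flip⟩
  · exact ⟨_, Or.inr rfl, by simpa only [F.utu] using F.rot.flip⟩
  · exact ⟨_, Or.inl rfl, F.rot⟩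
  · exact ⟨_, Or.inl rfl, r2⟩
  · exact ⟨_, Or.inr rfl, by simpa only [F.tut] using r2.flip⟩

theorem adapt1 {x : G} (xa : x • a = a) (xb : x • b = b) (x2 : x * x = 1) (x1 : x ≠ 1) :
    ∃ y : G, Fr a b x y h := by
  rcases F.inV xa xb x2 with rfl | rfl | rfl | rfl
  exacts [absurd rfl x1, ⟨_, F⟩, ⟨_, F.rot⟩, ⟨_, F.rot.rot⟩]

theorem card_V {S : G → Prop} (hS : ∀ x, S x ↔ x = 1 ∨ x = t ∨ x = u ∨ x = t * u) :
    Nat.card {x // S x} = 4 := by
  classical
  rw [card_sub_congr (Q := fun x => x ∈ ({1, t, u, t * u} : Finset G)) (by simpa using hS),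
    Nat.card_eq_fintype_card, Fintype.card_coe,
    Finset.card_insert_of_notMem (by simp [F.t1.symm, F.u1.symm, F.tu1.symm]),
    Finset.card_insert_of_notMem (by simp [F.ut.symm, F.u1]),
    Finset.card_insert_of_notMem (by simp [F.t1]), Finset.card_singleton]

end Fr

end Cfsg.Agent.TA4
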