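/-
Doubly transitive groups whose two-point stabilisers are isomorphic to `A₄`: counting and the
involutions interchanging two points.
-/
import Cfsg.Agent.TA4.Defs

set_option autoImplicit false

namespace Cfsg.Agent.TA4

open Cfsg MulAction H12

variable {G Ω : Type*} [Group G] [MulAction G Ω]

theorem swap_back {s : G} (s2 : s * s = 1) {a b : Ω} (e : s • a = b) : s • b = a := by
  rw [← e, ← mul_smul, s2, one_smul]

theorem inv_of_sq {s : G} (s2 : s * s = 1) : s⁻¹ = s := inv_eq_of_mul_eq_one_right s2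

/-- a group acting doubly transitively on an invariant set -/
theorem card_two [Finite G] [Finite Ω] (X : Subgroup G) (S : Ω → Prop) {a b : Ω} (hab : a ≠ b)
    (ha : S a) (hb : S b) (hS : ∀ x ∈ X, ∀ c, S c → S (x • c))
    (two : ∀ c d, S c → S d → c ≠ d → ∃ x ∈ X, x • a = c ∧ x • b = d) :
    Nat.card X = Nat.card {c // S c} * ((Nat.card {c // S c} - 1) * Nat.card ↥(X ⊓ Hs G a b)) ∧
    Nat.card ↥(X ⊓ stabilizer G a) = (Nat.card {c // S c} - 1) * Nat.card ↥(X ⊓ Hs G a b) := by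
  have h1 := card_trans X S (a := a) (fun x hx => hS x hx a ha) (fun c hc => by
    by_cases e : c = a
    · exact ⟨1, one_mem _, by rw [one_smul, e]⟩
    · obtain ⟨x, hx, h, -⟩ := two c a hc ha e
      exact ⟨x, hx, h⟩)
  have h2 := card_trans (X ⊓ stabilizer G a) (fun c => S c ∧ c ≠ a) (a := b)
    (fun x hx => ⟨hS x hx.1 b hb, sp_smul_ne hx.2 hab.symm⟩)
    (fun c hc => let ⟨x, hx, h, h'⟩ := two a c ha hc.1 hc.2.symm; ⟨x, ⟨hx, h⟩, h'⟩)
  have h3 := card_and_ne ha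
  rw [inf_assoc, show Nat.card {c // S c ∧ c ≠ a} = Nat.card {c // S c} - 1 by omega] at h2
  exact ⟨by rw [← h1, ← h2]; rfl, h2.symm⟩

namespace Fr

variable {a b : Ω} {t u h : G} (F : Fr a b t u h)
include F

theorem swap_conj {g : G} (ga : g • a = b) (gb : g • b = a) :
    Fr a b (g * t * g⁻¹) (g * u * g⁻¹) (g * h * g⁻¹) := by
  have := (F.conj g).symm
  rwa [ga, gb] at this

/-- an element of `C(t)` carrying `a`, `b` to fixed points of the four-group normalises it -/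
theorem conj_u {g : G} (hg : g * t = t * g) {c d : Ω} (ga : g • c = a) (gb : g • d = b)
    (uc : u • c = c) (ud : u • d = d) : g * u * g⁻¹ = u ∨ g * u * g⁻¹ = t * u := by
  rcases F.inV (x := g * u * g⁻¹) (ga ▸ conj_fix uc) (gb ▸ conj_fix ud)
    (H42.conj_mul_self F.u2 g) with e | e | e | e
  · exact absurd (by simpa using e) F.u1
  · rw [← conj_eq_iff.2 hg] at e
    exact absurd (by simpa using e) F.ut
  · exact Or.inl e
  · exact Or.inr e

theorem swap_u {g : G} (hg : g * t = t * g) (ga : g • a = b) (gb : g • b = a) :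
    g * u * g⁻¹ = u ∨ g * u * g⁻¹ = t * u := F.conj_u hg gb ga F.ub F.ua

/-- two swaps commuting with `t` differ by an element of the four-group -/
theorem coset {s g : G} (sa : s • a = b) (sb : s • b = a) (ga : g • a = b) (gb : g • b = a)
    (st : s * t = t * s) (gt : g * t = t * g) :
    g = s ∨ g = s * t ∨ g = s * u ∨ g = s * (t * u) := by
  have := F.cent (x := s⁻¹ * g) (by rw [mul_smul, ga, inv_smul_eq_iff, sa])
    (by rw [mul_smul, gb, inv_smul_eq_iff, sb])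
    (((Commute.inv_left st).mul_left gt).eq)
  simpa only [inv_mul_eq_iff_eq_mul, mul_one] using this

/-- an involution interchanging `a` and `b` centralises an involution of the four-group -/
theorem swap_fix {s : G} (s2 : s * s = 1) (sa : s • a = b) :
    s * t = t * s ∨ s * u = u * s ∨ s * (t * u) = t * u * s := by
  have F' := F.swap_conj sa (swap_back s2 sa)
  have back : ∀ x y : G, s * x * s⁻¹ = y → s * y * s⁻¹ = x := fun x y e => by
    rw [← e, show s * (s * x * s⁻¹) * s⁻¹ = s * s * x * (s * s)⁻¹ by group, s2]; simp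
  rcases F.inV F'.ta F'.tb F'.t2 with e | e | e | e
  · exact absurd e F'.t1
  · exact Or.inl (conj_eq_iff.1 e)
  · refine Or.inr (Or.inr (conj_eq_iff.1 ?_))
    rw [← conj_mul, e, back _ _ e, F.comm]
  · refine Or.inr (Or.inl (conj_eq_iff.1 ?_))
    have := back _ _ e
    rw [← conj_mul, e, ← eq_inv_mul_iff_mul_eq, inv_of_sq F.tu2, F.tut] at this
    exact this

/-- conjugating a swap so that it centralises `t` -/
theorem swap_move {s : G} (s2 : s * s = 1) (sa : s • a = b) :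
    ∃ k : G, (k = 1 ∨ k = h ∨ k = h⁻¹) ∧ (k * s * k⁻¹) • a = b ∧
      k * s * k⁻¹ * t = t * (k * s * k⁻¹) := by
  have mv : ∀ k x : G, k • a = a → k • b = b → s * x = x * s → k * x * k⁻¹ = t →
      (k * s * k⁻¹) • a = b ∧ k * s * k⁻¹ * t = t * (k * s * k⁻¹) := fun k x ka kb e1 e2 =>
    ⟨by rw [← ka, conj_smul_eq, sa, kb], by rw [← e2, conj_mul, conj_mul, e1]⟩
  rcases F.swap_fix s2 sa with e | e | e
  · exact ⟨1, Or.inl rfl, mv 1 t (one_smul _ _) (one_smul _ _) e (by simp)⟩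
  · exact ⟨h⁻¹, Or.inr (Or.inr rfl), mv _ u F.flip.ha F.flip.hb e F.hiu⟩
  · exact ⟨h, Or.inr (Or.inl rfl), mv _ _ F.ha F.hb e F.htu⟩

theorem card_CH [Finite G] {X : Subgroup G} (hX : X ≤ Ct t) (tX : t ∈ X) (uX : u ∈ X) :
    Nat.card ↥(X ⊓ Hs G a b) = 4 :=
  F.card_V (S := fun x => x ∈ X ⊓ Hs G a b) fun x =>
    ⟨fun hx => F.cent hx.2.1 hx.2.2 (mem_Ct.1 (hX hx.1)), by
      rintro (rfl | rfl | rfl | rfl)
      exacts [one_mem _, ⟨tX, F.ta, F.tb⟩, ⟨uX, F.ua, F.ub⟩, ⟨mul_mem tX uX, F.tua, F.tub⟩]⟩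

theorem card_H [Finite G] : Nat.card (Hs G a b) = 12 := by
  classical
  have h1 := card_conj_orbit (Hs G a b) t
  rw [inf_comm, F.card_CH le_rfl (mem_Ct.2 rfl) (mem_Ct.2 F.comm.symm),
    card_sub_congr (Q := fun x => x ∈ ({t, u, t * u} : Finset G)), Nat.card_eq_fintype_card,
    Fintype.card_coe, Finset.card_insert_of_notMem (by simp [F.ut.symm, F.u1]),
    Finset.card_insert_of_notMem (by simp [F.t1]), Finset.card_singleton] at h1
  · exact h1.symm
  intro w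
  simp only [Finset.mem_insert, Finset.mem_singleton]
  constructor
  · rintro ⟨x, hx, rfl⟩
    rcases F.act hx.1 hx.2 with e | e | e
    · exact Or.inl (conj_eq_iff.2 (F.v_comm e (by simp)))
    · exact Or.inr (Or.inl e.1)
    · exact Or.inr (Or.inr e.1)
  · rintro (rfl | rfl | rfl)
    exacts [⟨1, one_mem _, by simp⟩, ⟨h, ⟨F.ha, F.hb⟩, F.ht⟩, ⟨h⁻¹, ⟨F.flip.ha, F.flip.hb⟩, F.hit⟩]

theorem t_mem_Yt : t ∈ Yt t u := F.mem_Yt.2 ⟨rfl, Or.inl (conj_eq_iff.2 F.comm)⟩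
theorem u_mem_Yt : u ∈ Yt t u := F.mem_Yt.2 ⟨F.comm.symm, Or.inl (by simp)⟩

theorem Yt_fix {g : G} (hg : g ∈ Yt t u) {c : Ω} (hc : t • c = c ∧ u • c = c) :
    t • g • c = g • c ∧ u • g • c = g • c := by
  obtain ⟨h1, h2⟩ := F.mem_Yt.1 hg
  have e1 := fix_of_comm h1 hc.1
  refine ⟨e1, ?_⟩
  have e2 := conj_fix (k := g) hc.2
  rcases h2 with h2 | h2 <;> rw [h2] at e2
  · exact e2
  · rw [mul_smul] at e2
    rw [← smul_left_cancel_iff t, e2, e1]

end Fr

namespace A4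

variable (h : A4 G Ω)
include h

theorem exists_fr {a b : Ω} (hab : a ≠ b) : ∃ t u k : G, Fr a b t u k := by
  obtain ⟨c, d, t, u, k, F⟩ := h.fr
  obtain ⟨g, rfl, rfl⟩ := h.two F.ne hab
  exact ⟨_, _, _, F.conj g⟩

theorem fr1 {a b : Ω} (hab : a ≠ b) {t : G} (ta : t • a = a) (tb : t • b = b) (t2 : t * t = 1)
    (t1 : t ≠ 1) : ∃ u k : G, Fr a b t u k := by
  obtain ⟨_, _, k, F⟩ := h.exists_fr hab
  obtain ⟨u, F'⟩ := F.adapt1 ta tb t2 t1
  exact ⟨u, k, F'⟩

theorem fr2 {a b : Ω} (hab : a ≠ b) {t u : G} (ta : t • a = a) (tb : t • b = b) (t2 : t * t = 1)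
    (t1 : t ≠ 1) (ua : u • a = a) (ub : u • b = b) (u2 : u * u = 1) (u1 : u ≠ 1) (ut : u ≠ t) :
    ∃ k : G, Fr a b t u k := by
  obtain ⟨_, _, k, F⟩ := h.exists_fr hab
  obtain ⟨k', -, F'⟩ := F.adapt ta tb t2 t1 ua ub u2 u1 ut
  exact ⟨k', F'⟩

/-- the frame moved to another pair of points fixed by the four-group -/
theorem fr_move {a b c d : Ω} {t u k : G} (F : Fr a b t u k) (hcd : c ≠ d) (tc : t • c = c)
    (td : t • d = d) (uc : u • c = c) (ud : u • d = d) : ∃ k' : G, Fr c d t u k' :=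
  h.fr2 hcd tc td F.t2 F.t1 uc ud F.u2 F.u1 F.ut

theorem frD {t : G} (ht : D Ω t) : ∃ (a b : Ω) (u k : G), Fr a b t u k := by
  obtain ⟨t1, t2, a, b, hab, ta, tb⟩ := ht
  exact ⟨a, b, h.fr1 hab ta tb t2 t1⟩

/-- Witt's lemma for an involution -/
theorem witt {s t : G} (s1 : s ≠ 1) (s2 : s * s = 1) (t1 : t ≠ 1) (t2 : t * t = 1) {a b c d : Ω}
    (hab : a ≠ b) (hcd : c ≠ d) (sa : s • a = a) (sb : s • b = b) (tc : t • c = c)
    (td : t • d = d) : ∃ g : G, g * s * g⁻¹ = t ∧ g • a = c ∧ g • b = d := by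
  obtain ⟨g, rfl, rfl⟩ := h.two hab hcd
  obtain ⟨u, k, F⟩ := h.fr1 hcd tc td t2 t1
  have e : ∀ x : G, x * g * s * (x * g)⁻¹ = x * (g * s * g⁻¹) * x⁻¹ := fun x => by group
  rcases F.inV (x := g * s * g⁻¹) (conj_fix sa) (conj_fix sb) (H42.conj_mul_self s2 g)
    with e1 | e1 | e1 | e1
  · exact absurd (by simpa using e1) s1
  · exact ⟨g, e1, rfl, rfl⟩
  · exact ⟨k⁻¹ * g, by rw [e, e1, F.hiu], by rw [mul_smul, F.flip.ha], by rw [mul_smul, F.flip.hb]⟩
  · exact ⟨k * g, by rw [e, e1, F.htu], by rw [mul_smul, F.ha], by rw [mul_smul, F.hb]⟩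

theorem conjD {s t : G} (hs : D Ω s) (ht : D Ω t) : ∃ g : G, g * s * g⁻¹ = t := by
  obtain ⟨s1, s2, a, b, hab, sa, sb⟩ := hs
  obtain ⟨t1, t2, c, d, hcd, tc, td⟩ := ht
  obtain ⟨g, hg, -⟩ := h.witt s1 s2 t1 t2 hab hcd sa sb tc td
  exact ⟨g, hg⟩

theorem two_C {t : G} (t1 : t ≠ 1) (t2 : t * t = 1) {a b c d : Ω} (hab : a ≠ b) (hcd : c ≠ d)
    (ta : t • a = a) (tb : t • b = b) (tc : t • c = c) (td : t • d = d) :
    ∃ g : G, g * t = t * g ∧ g • a = c ∧ g • b = d := by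
  obtain ⟨g, hg, h2⟩ := h.witt t1 t2 t1 t2 hab hcd ta tb tc td
  exact ⟨g, conj_eq_iff.1 hg, h2⟩

theorem two_Y {a b c d : Ω} {t u k : G} (F : Fr a b t u k) (hcd : c ≠ d)
    (hc : t • c = c ∧ u • c = c) (hd : t • d = d ∧ u • d = d) :
    ∃ g ∈ Yt t u, g • a = c ∧ g • b = d := by
  obtain ⟨g, hg, h1, h2⟩ := h.two_C F.t1 F.t2 F.ne hcd F.ta F.tb hc.1 hd.1
  obtain ⟨k', F'⟩ := h.fr_move F hcd hc.1 hd.1 hc.2 hd.2
  exact ⟨g, F.mem_Yt.2 ⟨hg, F'.conj_u hg h1 h2 F.ua F.ub⟩, h1, h2⟩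

/-- any two frames are conjugate up to the order of `u` and `t u` -/
theorem conj_fr {a b c d : Ω} {t u k t' u' k' : G} (F : Fr a b t u k) (F' : Fr c d t' u' k') :
    ∃ g : G, g • a = c ∧ g • b = d ∧ g * t * g⁻¹ = t' ∧
      (g * u * g⁻¹ = u' ∨ g * u * g⁻¹ = t' * u') := by
  obtain ⟨g, hg, rfl, rfl⟩ := h.witt F.t1 F.t2 F'.t1 F'.t2 F.ne F'.ne F.ta F.tb F'.ta F'.tb
  refine ⟨g, rfl, rfl, hg, ?_⟩
  have F2 := F.conj g
  rcases F'.inV F2.ua F2.ub F2.u2 with e | e | e | e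
  exacts [absurd e F2.u1, absurd (e.trans hg.symm) F2.ut, Or.inl e, Or.inr e]

theorem exists_D_swap {a b : Ω} (hab : a ≠ b) : ∃ s : G, D Ω s ∧ s • a = b := by
  obtain ⟨t, u, k, F⟩ := h.exists_fr hab
  obtain ⟨c, hc⟩ := h.moved F.t1
  obtain ⟨g, h1, h2⟩ := h.two hc.symm hab
  exact ⟨g * t * g⁻¹, F.Dt.conj g, by rw [← h1, conj_smul_eq, h2]⟩

theorem ty : TyP G Ω ∨ TyS G Ω := by
  by_contra! hc
  obtain ⟨h1, h2⟩ := hc
  apply h1
  simp only [TyS, not_forall, not_not] at h2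
  obtain ⟨a, b, t, u, k, s, F, s2, sa, st, su⟩ := h2
  intro c d t' u' k' s' F' s2' sa'
  obtain ⟨g, rfl, rfl, rfl, -⟩ := h.conj_fr F F'
  obtain ⟨w, rfl⟩ : ∃ w, s' = g * w * g⁻¹ := ⟨g⁻¹ * s' * g, by group⟩
  have w2 : w * w = 1 := by simpa [conj_mul] using s2'
  have wa : w • a = b := by rwa [conj_smul_eq, smul_left_cancel_iff] at sa'
  rw [conj_mul, conj_mul]
  congr 2
  obtain ⟨x, rfl⟩ : ∃ x, w = s * x := ⟨s⁻¹ * w, by group⟩
  have xa : x • a = a := by rw [mul_smul, ← sa, smul_left_cancel_iff] at wa; exact wa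
  have xb : x • b = b := by
    have := swap_back w2 wa
    rwa [mul_smul, ← swap_back s2 sa, smul_left_cancel_iff] at this
  have stu : s * (t * u) = t * u * s := ((Commute.mul_right st su : Commute s (t * u))).eq
  have e : ∀ y : G, s * x * y * (s * x)⁻¹ = s * (x * y * x⁻¹) * s⁻¹ := fun y => by group
  rcases F.act xa xb with e1 | e1 | e1
  · rw [mul_assoc, F.v_comm e1 (by simp), ← mul_assoc, st, mul_assoc]
  all_goals
    exfalso
    rcases F.swap_fix w2 wa with e2 | e2 | e2 <;> rw [← conj_eq_iff, e] at e2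
  · rw [e1.1, conj_eq_iff.2 su] at e2; exact F.ut e2
  · rw [e1.2, conj_eq_iff.2 stu] at e2; exact F.tu_u e2
  · rw [← conj_mul (a := t) (c := u) (b := x), e1.1, e1.2, F.utu, conj_eq_iff.2 st] at e2; exact F.tu_t e2.symm
  · rw [e1.1, conj_eq_iff.2 stu] at e2; exact F.tu_t e2
  · rw [e1.2, conj_eq_iff.2 st] at e2; exact F.ut e2.symm
  · rw [← conj_mul (a := t) (c := u) (b := x), e1.1, e1.2, F.tut, conj_eq_iff.2 su] at e2; exact F.tu_u e2.symm

variable [Finite G] [Finite Ω]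

omit [Finite Ω] in
theorem card_H {a b : Ω} (hab : a ≠ b) : Nat.card (Hs G a b) = 12 :=
  let ⟨_, _, _, F⟩ := h.exists_fr hab; F.card_H

omit [Finite G] [Finite Ω] in
theorem exists_par : ∃ f e, Par G Ω f e := by
  obtain ⟨a, b, t, u, k, F⟩ := h.fr
  refine ⟨Nat.card {c : Ω // t • c = c}, Nat.card {c : Ω // t • c = c ∧ u • c = c}, h,
    fun {s} hs => ?_, fun {c d t' u' k'} F' => ?_⟩
  · obtain ⟨g, rfl⟩ := h.conjD F.Dt hs
    exact card_fix_conj' t g
  · obtain ⟨g, -, -, h1, h2⟩ := h.conj_fr F F'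
    have key : ∀ c : Ω, (t' • g • c = g • c ∧ u' • g • c = g • c) ↔ t • c = c ∧ u • c = c := by
      intro c
      have e1 : t' • g • c = g • c ↔ t • c = c := by rw [← h1, conj_smul_eq, smul_left_cancel_iff]
      rw [e1]
      refine and_congr_right fun tc => ?_
      rw [← smul_left_cancel_iff g (x := u • c), ← conj_smul_eq g u c]
      rcases h2 with h2 | h2 <;> rw [h2]
      rw [mul_smul]
      constructor
      · intro e; rw [e, e1.2 tc]
      · intro e; rw [← smul_left_cancel_iff t', e, e1.2 tc]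
    exact (Nat.card_congr ((MulAction.toPerm g).subtypeEquiv fun c => (key c).symm)).symm

theorem card_stab (a : Ω) : Nat.card (stabilizer G a) = (Nat.card Ω - 1) * 12 := by
  obtain ⟨c, d, _, _, _, F⟩ := h.fr
  obtain ⟨b, hb⟩ : ∃ b, a ≠ b := by
    by_cases e : a = c
    exacts [⟨d, e ▸ F.ne⟩, ⟨c, e⟩]
  rw [KOS.card_stab h.toT2 hb, h.card_H hb]

theorem card_G : Nat.card G = Nat.card Ω * ((Nat.card Ω - 1) * 12) := by
  obtain ⟨c, d, _, _, _, F⟩ := h.fr
  rw [KOS.card_G h.toT2 F.ne, F.card_H]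

end A4

theorem A4.of_equiv (h : T2 G Ω) {a b : Ω} (hab : a ≠ b)
    (e : Hs G a b ≃* alternatingGroup (Fin 4)) : A4 G Ω := by
  let t : alternatingGroup (Fin 4) := ⟨Equiv.swap 0 1 * Equiv.swap 2 3, Equiv.Perm.mem_alternatingGroup.2 (by decide)⟩
  let u : alternatingGroup (Fin 4) := ⟨Equiv.swap 0 3 * Equiv.swap 1 2, Equiv.Perm.mem_alternatingGroup.2 (by decide)⟩
  let k : alternatingGroup (Fin 4) := ⟨Equiv.swap 0 1 * Equiv.swap 1 2, Equiv.Perm.mem_alternatingGroup.2 (by decide)⟩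
  let φ : alternatingGroup (Fin 4) →* G := (Hs G a b).subtype.comp e.symm.toMonoidHom
  have inj : Function.Injective φ := Subtype.val_injective.comp e.symm.injective
  have hf : ∀ x, φ x • a = a ∧ φ x • b = b := fun x => (e.symm x).2
  have all : ∀ x : alternatingGroup (Fin 4), ∃ v, (v = 1 ∨ v = t ∨ v = u ∨ v = t * u) ∧
      (x = v ∨ x = v * k ∨ x = v * k⁻¹) := by decide
  refine ⟨h, a, b, φ t, φ u, φ k, hab, (hf _).1, (hf _).2, (hf _).1, (hf _).2, (hf _).1, (hf _).2,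
    ?_, ?_, ?_, ?_, ?_, ?_, ?_, ?_, ?_, fun x xa xb => ?_⟩
  · rw [← map_mul, show t * t = 1 by decide, map_one]
  · rw [← map_mul, show u * u = 1 by decide, map_one]
  · exact fun h => absurd (inj (h.trans (map_one φ).symm)) (by decide)
  · exact fun h => absurd (inj (h.trans (map_one φ).symm)) (by decide)
  · exact fun h => absurd (inj h) (by decide)
  · rw [← map_mul, ← map_mul, show t * u = u * t by decide]
  · rw [← map_mul, ← map_mul, show k * k * k = 1 by decide, map_one]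
  · rw [← map_inv, ← map_mul, ← map_mul, show k * t * k⁻¹ = u by decide]
  · rw [← map_inv, ← map_mul, ← map_mul, ← map_mul, show k * u * k⁻¹ = t * u by decide]
  · obtain ⟨v, hv, hx⟩ := all (e ⟨x, xa, xb⟩)
    have e1 : x = φ (e ⟨x, xa, xb⟩) := by simp [φ]
    refine ⟨φ v, ?_, ?_⟩
    · rcases hv with rfl | rfl | rfl | rfl <;> simp
    · rw [e1]
      rcases hx with hx | hx | hx <;> simp [hx]

end Cfsg.Agent.TA4
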