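/-
Doubly transitive groups whose two-point stabilisers are isomorphic to `A₄`: orders, the two types.
-/
import Cfsg.Agent.TA4.Basic

set_option autoImplicit false

namespace Cfsg.Agent.TA4

open Cfsg MulAction H12

variable {G Ω : Type*} [Group G] [MulAction G Ω]

/-- `y` is a big partner of `t`: `{1, t, y, t y}` is the four-group of a two-point stabiliser -/
def BP (Ω : Type*) {G : Type*} [Group G] [MulAction G Ω] (t y : G) : Prop :=
  y ≠ 1 ∧ y ≠ t ∧ y * y = 1 ∧ ∃ c d : Ω, c ≠ d ∧ t • c = c ∧ t • d = d ∧ y • c = c ∧ y • d = d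

theorem BP.conj {t y : G} (h : BP Ω t y) (k : G) : BP Ω (k * t * k⁻¹) (k * y * k⁻¹) := by
  obtain ⟨h1, h2, h3, c, d, hcd, tc, td, yc, yd⟩ := h
  exact ⟨by simpa using h1, by simpa using h2, H42.conj_mul_self h3 k, k • c, k • d,
    fun e => hcd (MulAction.injective k e), conj_fix tc, conj_fix td, conj_fix yc, conj_fix yd⟩

theorem BP.conj' {t y k : G} (h : BP Ω t y) (hk : k * t = t * k) : BP Ω t (k * y * k⁻¹) := by
  simpa only [conj_eq_iff.2 hk] using h.conj k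

theorem BP.D {t y : G} (h : BP Ω t y) : D Ω y :=
  let ⟨h1, _, h3, c, d, hcd, _, _, yc, yd⟩ := h; ⟨h1, h3, c, d, hcd, yc, yd⟩

theorem Fr.bp {a b : Ω} {t u h : G} (F : Fr a b t u h) : BP Ω t u :=
  ⟨F.u1, F.ut, F.u2, a, b, F.ne, F.ta, F.tb, F.ua, F.ub⟩

theorem A4.fr_bp (h : A4 G Ω) {t y : G} (ht : D Ω t) (hy : BP Ω t y) :
    ∃ (c d : Ω) (k : G), Fr c d t y k :=
  let ⟨h1, h2, h3, c, d, hcd, tc, td, yc, yd⟩ := hy
  ⟨c, d, h.fr2 hcd tc td ht.2.1 ht.1 yc yd h3 h1 h2⟩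

theorem D.second {t : G} (ht : D Ω t) (a : Ω) : ∃ b, a ≠ b ∧ t • b = b := by
  obtain ⟨-, -, c, d, hcd, tc, td⟩ := ht
  by_cases e : a = c
  exacts [⟨d, e ▸ hcd, td⟩, ⟨c, e, tc⟩]

theorem card_pairs [Finite Ω] (S : Ω → Prop) :
    Nat.card {p : Ω × Ω // S p.1 ∧ S p.2 ∧ p.1 ≠ p.2} =
      Nat.card {c // S c} * (Nat.card {c // S c} - 1) := by
  have := card_double (fun (p : {p : Ω × Ω // S p.1 ∧ S p.2 ∧ p.1 ≠ p.2}) (c : {c // S c}) =>
    p.1.1 = c) (m := 1) (n := Nat.card {c // S c} - 1)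
    (fun p => card_eq_one_of ⟨p.1.1, p.2.1⟩ fun c => by simp [Subtype.ext_iff, eq_comm])
    (fun c => by
      have := card_and_ne c.2
      rw [← this, Nat.add_sub_cancel]
      exact Nat.card_congr
        { toFun := fun p => ⟨p.1.1.2, p.1.2.2.1, fun e => p.1.2.2.2 (p.2.trans e.symm)⟩
          invFun := fun d => ⟨⟨(c, d), c.2, d.2.1, d.2.2.symm⟩, rfl⟩
          left_inv := fun p => Subtype.ext (Subtype.ext (Prod.ext p.2.symm rfl))
          right_inv := fun d => rfl })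
  rwa [mul_one] at this

variable [Finite G] [Finite Ω]

namespace Par

variable {f e : ℕ} (h : Par G Ω f e)
include h

theorem card_C' {a b : Ω} {t u k : G} (F : Fr a b t u k) :
    Nat.card (Ct t) = f * ((f - 1) * 4) ∧ Nat.card ↥(Ct t ⊓ stabilizer G a) = (f - 1) * 4 := by
  have := card_two (Ct t) (fun c : Ω => t • c = c) F.ne F.ta F.tb
    (fun x hx c hc => fix_of_comm (mem_Ct.1 hx) hc) fun c d hc hd hcd =>
      let ⟨g, h1, h2⟩ := h.two_C F.t1 F.t2 F.ne hcd F.ta F.tb hc hd; ⟨g, mem_Ct.2 h1, h2⟩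
  rwa [h.cf F.Dt, F.card_CH le_rfl (mem_Ct.2 rfl) (mem_Ct.2 F.comm.symm)] at this

theorem card_C {t : G} (ht : D Ω t) : Nat.card (Ct t) = f * ((f - 1) * 4) :=
  let ⟨_, _, _, _, F⟩ := h.frD ht; (h.card_C' F).1

theorem card_Ca {t : G} (ht : D Ω t) {a : Ω} (ta : t • a = a) :
    Nat.card ↥(Ct t ⊓ stabilizer G a) = (f - 1) * 4 :=
  let ⟨_, hab, tb⟩ := ht.second a
  let ⟨_, _, F⟩ := h.fr1 hab ta tb ht.2.1 ht.1
  (h.card_C' F).2

theorem card_Y {a b : Ω} {t u k : G} (F : Fr a b t u k) :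
    Nat.card (Yt t u) = e * ((e - 1) * 4) ∧
      Nat.card ↥(Yt t u ⊓ stabilizer G a) = (e - 1) * 4 := by
  have := card_two (Yt t u) (fun c : Ω => t • c = c ∧ u • c = c) F.ne ⟨F.ta, F.ua⟩ ⟨F.tb, F.ub⟩
    (fun x hx c hc => F.Yt_fix hx hc) fun c d hc hd hcd => h.two_Y F hcd hc hd
  rwa [h.ce F, F.card_CH (X := Yt t u) inf_le_left F.t_mem_Yt F.u_mem_Yt] at this

omit [Finite G]

theorem two_le_e : 2 ≤ e := by
  obtain ⟨a, b, t, u, k, F⟩ := h.fr
  rw [← h.ce F, ← card_eq_two_of F.ne (P := fun c => c = a ∨ c = b) fun _ => Iff.rfl]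
  exact card_sub_le (by rintro _ (rfl | rfl); exacts [⟨F.ta, F.ua⟩, ⟨F.tb, F.ub⟩])

theorem e_le_f : e ≤ f := by
  obtain ⟨a, b, t, u, k, F⟩ := h.fr
  rw [← h.ce F, ← h.cf F.Dt]
  exact card_sub_le fun _ => And.left

theorem f_lt_n : f < Nat.card Ω := by
  obtain ⟨a, b, t, u, k, F⟩ := h.fr
  obtain ⟨c, hc⟩ := h.moved F.t1
  have h1 := card_ne c
  have h2 : Nat.card {d : Ω // t • d = d} ≤ Nat.card {d // d ≠ c} :=
    card_sub_le fun d hd e => hc (e ▸ hd)
  rw [h.cf F.Dt] at h2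
  omega

theorem f_mod : f % 2 = e % 2 := by
  obtain ⟨a, b, t, u, k, F⟩ := h.fr
  rw [← h.ce F, ← h.cf F.Dt]
  exact card_fix_modEq Nat.prime_two (x := u) (fun c : Ω => t • c = c)
    (fun c hc => fix_of_comm F.comm.symm hc) fun c _ => by rw [sq, F.u2, one_smul]

theorem n_mod : Nat.card Ω % 2 = f % 2 := by
  obtain ⟨a, b, t, u, k, F⟩ := h.fr
  have := card_fix_modEq Nat.prime_two (x := t) (fun _ : Ω => True) (fun _ _ => trivial)
    fun c _ => by rw [sq, F.t2, one_smul]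
  rwa [Nat.card_congr (Equiv.subtypeUnivEquiv fun _ => trivial),
    card_sub_congr (Q := fun c : Ω => t • c = c) (by simp), h.cf F.Dt] at this

/-- case A: the four-group fixes all fixed points of `t` -/
theorem fixA (he : e = f) {a b : Ω} {t u k : G} (F : Fr a b t u k) {c : Ω} (hc : t • c = c) :
    u • c = c :=
  (of_card_sub_le (P := fun c : Ω => t • c = c ∧ u • c = c) (Q := fun c => t • c = c)
    (fun _ => And.left) (by rw [h.ce F, h.cf F.Dt, he]) hc).2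

/-- case A: the centraliser of `t` normalises the four-group -/
theorem normA (he : e = f) {a b : Ω} {t u k : G} (F : Fr a b t u k) {g : G} (hg : g * t = t * g) :
    g * u * g⁻¹ = u ∨ g * u * g⁻¹ = t * u :=
  F.conj_u hg (smul_inv_smul g a) (smul_inv_smul g b)
    (h.fixA he F (fix_of_comm (Commute.inv_left hg).eq F.ta))
    (h.fixA he F (fix_of_comm (Commute.inv_left hg).eq F.tb))

/-- case B -/
theorem movedB (he : e < f) {a b : Ω} {t u k : G} (F : Fr a b t u k) :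
    ∃ c : Ω, t • c = c ∧ u • c ≠ c := by
  by_contra! hc
  have : Nat.card {c : Ω // t • c = c} ≤ Nat.card {c : Ω // t • c = c ∧ u • c = c} :=
    card_sub_le fun c h1 => ⟨h1, hc c h1⟩
  rw [h.ce F, h.cf F.Dt] at this
  omega

theorem kerB (he : e < f) {t x : G} (ht : D Ω t) (hx : x * t = t * x)
    (hf : ∀ c : Ω, t • c = c → x • c = c) : x = 1 ∨ x = t := by
  obtain ⟨a, b, u, k, F⟩ := h.frD ht
  rcases F.cent (hf a F.ta) (hf b F.tb) hx with e | e | rfl | rfl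
  · exact Or.inl e
  · exact Or.inr e
  · obtain ⟨c, h1, h2⟩ := h.movedB he F
    exact absurd (hf c h1) h2
  · obtain ⟨c, h1, h2⟩ := h.movedB he F.flip
    exact absurd (hf c h1) h2

omit [Finite Ω] in
theorem card_bp {t y : G} (ht : D Ω t) (hy : BP Ω t y) :
    Nat.card {c : Ω // t • c = c ∧ y • c = c} = e :=
  let ⟨_, _, _, F⟩ := h.fr_bp ht hy; h.ce F

variable [Finite G]

/-- the number of involutions with two fixed points interchanging `a` and `b` -/
theorem count {a b : Ω} (hab : a ≠ b) :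
    Nat.card {s : G // D Ω s ∧ s • a = b} * (f * (f - 1)) + 3 * f = 3 * Nat.card Ω := by
  obtain ⟨t, u, k, F⟩ := h.exists_fr hab
  have := h.count_conj t hab
  rw [card_moved, h.cf F.Dt, F.card_H, h.card_C F.Dt, card_sub_congr
    (Q := fun s : G => D Ω s ∧ s • a = b) fun s => and_congr_left fun _ =>
      ⟨fun ⟨g, hg⟩ => hg ▸ (by simpa using F.Dt.conj g⁻¹), fun hs =>
        let ⟨g, hg⟩ := h.conjD F.Dt hs; ⟨g⁻¹, by simpa using hg⟩⟩] at this
  have h2 := h.f_lt_n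
  obtain ⟨m, hm⟩ := Nat.exists_eq_add_of_le h2.le
  rw [hm, Nat.add_sub_cancel_left] at this
  rw [hm]
  nlinarith

/-- the number of big partners of `t` interchanging two fixed points of `t` -/
theorem count_bp {a b : Ω} {t u k : G} (F : Fr a b t u k) :
    Nat.card {y : G // BP Ω t y ∧ y • a = b} * (e * (e - 1)) + 2 * e = 2 * f := by
  have cm : ∀ y, BP Ω t y → y * t = t * y := fun y hy =>
    let ⟨_, _, _, F⟩ := h.fr_bp F.Dt hy; F.comm.symm
  have h1 := card_double (fun (y : {y : G // BP Ω t y})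
    (p : {p : Ω × Ω // t • p.1 = p.1 ∧ t • p.2 = p.2 ∧ p.1 ≠ p.2}) => y.1 • p.1.1 = p.1.2)
    (m := f - e) (n := Nat.card {y : G // BP Ω t y ∧ y • a = b})
    (fun y => by
      have := card_and_split (fun c : Ω => t • c = c) fun c => y.1 • c = c
      rw [h.cf F.Dt, h.card_bp F.Dt y.2] at this
      rw [this, Nat.add_sub_cancel_left]
      exact Nat.card_congr
        { toFun := fun p => ⟨p.1.1.1, p.1.2.1, fun e => p.1.2.2.2 (e.symm.trans p.2)⟩
          invFun := fun c => ⟨⟨(c, y.1 • c.1), c.2.1, fix_of_comm (cm _ y.2) c.2.1,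
            fun e => c.2.2 e.symm⟩, rfl⟩
          left_inv := fun p => Subtype.ext (Subtype.ext (Prod.ext rfl p.2))
          right_inv := fun d => rfl })
    (fun p => by
      obtain ⟨g, hg, ga, gb⟩ := h.two_C F.t1 F.t2 F.ne p.2.2.2 F.ta F.tb p.2.1 p.2.2.1
      exact Nat.card_congr
        { toFun := fun y => ⟨g⁻¹ * y.1.1 * g, by simpa using y.1.2.conj' (Commute.inv_left hg).eq,
            by rw [mul_smul, mul_smul, ga, y.2, ← gb, inv_smul_smul]⟩
          invFun := fun y => ⟨⟨g * y.1 * g⁻¹, y.2.1.conj' hg⟩, by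
            rw [← ga, conj_smul_eq, y.2.2, gb]⟩
          left_inv := fun y => Subtype.ext (Subtype.ext (by simp [mul_assoc]))
          right_inv := fun y => Subtype.ext (by simp [mul_assoc]) })
  have h2 := card_double (fun (y : {y : G // BP Ω t y})
    (p : {p : Ω × Ω // t • p.1 = p.1 ∧ t • p.2 = p.2 ∧ p.1 ≠ p.2}) =>
      y.1 • p.1.1 = p.1.1 ∧ y.1 • p.1.2 = p.1.2) (m := e * (e - 1)) (n := 2)
    (fun y => by
      rw [← h.card_bp F.Dt y.2, ← card_pairs fun c : Ω => t • c = c ∧ y.1 • c = c]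
      exact Nat.card_congr
        { toFun := fun p => ⟨p.1.1, ⟨p.1.2.1, p.2.1⟩, ⟨p.1.2.2.1, p.2.2⟩, p.1.2.2.2⟩
          invFun := fun p => ⟨⟨p.1, p.2.1.1, p.2.2.1.1, p.2.2.2⟩, p.2.1.2, p.2.2.1.2⟩
          left_inv := fun p => rfl
          right_inv := fun d => rfl })
    (fun p => by
      obtain ⟨v, k', F'⟩ := h.fr1 p.2.2.2 p.2.1 p.2.2.1 F.t2 F.t1
      refine card_eq_two_of (a := ⟨v, F'.bp⟩) (b := ⟨t * v, F'.flip.bp⟩)
        (fun e => F'.tu_u (congrArg Subtype.val e).symm) fun y => ⟨fun hy => ?_, ?_⟩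
      · rcases F'.inV hy.1 hy.2 y.2.2.2.1 with e | e | e | e
        exacts [absurd e y.2.1, absurd e y.2.2.1, Or.inl (Subtype.ext e), Or.inr (Subtype.ext e)]
      · rintro (rfl | rfl)
        exacts [⟨F'.ua, F'.ub⟩, ⟨F'.tua, F'.tub⟩])
  have h3 : 0 < Nat.card {y : G // BP Ω t y} := Nat.card_pos_iff.2 ⟨⟨⟨u, F.bp⟩⟩, inferInstance⟩
  obtain ⟨m, hm⟩ := Nat.exists_eq_add_of_le h.e_le_f
  rw [hm, Nat.add_sub_cancel_left] at h1
  rw [hm, mul_add, add_comm (2 * e), Nat.add_right_cancel_iff]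
  refine Nat.eq_of_mul_eq_mul_left h3 ?_
  calc _ = Nat.card {y : G // BP Ω t y ∧ y • a = b} * (Nat.card {y : G // BP Ω t y} * (e * (e - 1))) := by ring
    _ = 2 * (Nat.card {y : G // BP Ω t y} * m) := by rw [h2, h1]; ring
    _ = _ := by ring

end Par

end Cfsg.Agent.TA4
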