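/-
Doubly transitive groups whose two-point stabilisers are isomorphic to `A₄`: the two types.
-/
import Cfsg.Agent.TA4.Cnt

set_option autoImplicit false

namespace Cfsg.Agent.TA4

open Cfsg MulAction H12

variable {G Ω : Type*} [Group G] [MulAction G Ω]

theorem Fr.swap_mul {a b : Ω} {t u k : G} (F : Fr a b t u k) {s v : G} (sa : s • a = b)
    (hv : v = 1 ∨ v = t ∨ v = u ∨ v = t * u) : (s * v) • a = b := by
  rw [mul_smul, F.v_fix hv F.ta F.ua, sa]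

namespace TyP

variable (hP : TyP G Ω) {a b : Ω} {t u k : G} (F : Fr a b t u k) {s : G} (s2 : s * s = 1)
  (sa : s • a = b)
include hP F s2 sa

theorem cu : s * u = u * s := hP F.rot s2 sa

theorem cv {v : G} (hv : v = 1 ∨ v = t ∨ v = u ∨ v = t * u) : s * v = v * s := by
  rcases hv with rfl | rfl | rfl | rfl
  exacts [by simp, hP F s2 sa, hP.cu F s2 sa, hP F.rot.rot s2 sa]

theorem sq {v : G} (hv : v = 1 ∨ v = t ∨ v = u ∨ v = t * u) : s * v * (s * v) = 1 := by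
  rw [mul_assoc, ← mul_assoc v, ← hP.cv F s2 sa hv, mul_assoc, F.v_sq hv, mul_one, s2]

/-- the involutions interchanging `a` and `b` -/
theorem swap_iff {g : G} : (g * g = 1 ∧ g • a = b) ↔
    g = s ∨ g = s * t ∨ g = s * u ∨ g = s * (t * u) := by
  constructor
  · rintro ⟨g2, ga⟩
    exact F.coset sa (swap_back s2 sa) ga (swap_back g2 ga) (hP F s2 sa) (hP F g2 ga)
  · rintro (rfl | rfl | rfl | rfl)
    · exact ⟨s2, sa⟩
    all_goals exact ⟨hP.sq F s2 sa (by simp), F.swap_mul sa (by simp)⟩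

/-- a swap commuting with `t` is an involution -/
theorem swap_sq {g : G} (ga : g • a = b) (gb : g • b = a) (gt : g * t = t * g) : g * g = 1 :=
  ((hP.swap_iff F s2 sa).2 (F.coset sa (swap_back s2 sa) ga gb (hP F s2 sa) gt)).1

theorem card_swap : Nat.card {g : G // g * g = 1 ∧ g • a = b} = 4 := by
  rw [← F.card_V (S := fun x => x = 1 ∨ x = t ∨ x = u ∨ x = t * u) fun _ => Iff.rfl]
  exact (Nat.card_congr ((Equiv.mulLeft s).subtypeEquiv fun x => by
    simp [hP.swap_iff F s2 sa])).symm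

theorem s0_unique (sk : s * k = k * s) {g : G} (g2 : g * g = 1) (ga : g • a = b)
    (gk : g * k = k * g) : g = s := by
  have key : ∀ v, s * v * k = k * (s * v) → k * v * k⁻¹ = v := fun v e => by
    rw [mul_assoc, ← mul_assoc k, ← sk, mul_assoc, mul_right_inj] at e
    exact conj_eq_iff.2 e.symm
  rcases (hP.swap_iff F s2 sa).1 ⟨g2, ga⟩ with rfl | rfl | rfl | rfl
  · rfl
  · exact absurd (F.ht.symm.trans (key _ gk)) F.ut
  · exact absurd (F.hu.symm.trans (key _ gk)) F.tu_u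
  · exact absurd (F.htu.symm.trans (key _ gk)).symm F.tu_t

theorem D_rot (sk : s * k = k * s) :
    (D Ω (s * u) ↔ D Ω (s * t)) ∧ (D Ω (s * (t * u)) ↔ D Ω (s * t)) := by
  have _ := hP.cu F s2 sa
  have e : ∀ v, k * (s * v) * k⁻¹ = s * (k * v * k⁻¹) := fun v => by
    rw [← conj_mul, conj_eq_iff.2 sk.symm]
  exact ⟨by rw [← F.ht, ← e, D_conj_iff], by rw [← D_conj_iff (k := k), e, F.htu]⟩

theorem exists_s0' : ∃ g : G, g * g = 1 ∧ g • a = b ∧ g * k = k * g := by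
  have e : ∀ v, k * (s * v) * k⁻¹ = k * s * k⁻¹ * (k * v * k⁻¹) := fun v => conj_mul.symm
  have key : ∀ v, (v = 1 ∨ v = t ∨ v = u ∨ v = t * u) → k * (s * v) * k⁻¹ = s * v →
      ∃ g : G, g * g = 1 ∧ g • a = b ∧ g * k = k * g := fun v hv e =>
    ⟨s * v, hP.sq F s2 sa hv, F.swap_mul sa hv, (conj_eq_iff.1 e).symm⟩
  rcases (hP.swap_iff F s2 sa (g := k * s * k⁻¹)).1 ⟨H42.conj_mul_self s2 k, by
    rw [← F.ha, conj_smul_eq, sa, F.hb]⟩ with e1 | e1 | e1 | e1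
  · exact key 1 (by simp) (by simpa using e1)
  · exact key u (by simp) (by rw [e, e1, F.hu, mul_assoc, F.ttu])
  · exact key (t * u) (by simp) (by rw [e, e1, F.htu, mul_assoc, F.comm])
  · exact key t (by simp) (by rw [e, e1, F.ht, mul_assoc, F.tuu])

end TyP

namespace TyS

variable (hS : TyS G Ω) {a b : Ω} {t u k : G} (F : Fr a b t u k) {s : G} (s2 : s * s = 1)
  (sa : s • a = b) (st : s * t = t * s)
include hS F s2 sa st

theorem conj_u : s * u * s⁻¹ = t * u :=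
  (F.swap_u st sa (swap_back s2 sa)).resolve_left fun e => hS F s2 sa ⟨st, conj_eq_iff.1 e⟩

theorem u_conj : u * s * u⁻¹ = s * t := by
  have := hS.conj_u F s2 sa st
  rw [mul_inv_eq_iff_eq_mul] at this
  rw [F.ui, mul_assoc, this, ← mul_assoc, F.utu, st]

theorem su_sq : s * u * (s * u) = t := by
  have := hS.conj_u F s2 sa st
  rw [inv_of_sq s2] at this
  rw [← mul_assoc, this, F.tuu]

theorem stu_sq : s * (t * u) * (s * (t * u)) = t := hS.su_sq F.flip s2 sa st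

theorem st_sq : s * t * (s * t) = 1 := by
  rw [← hS.u_conj F s2 sa st]; exact H42.conj_mul_self s2 u

/-- the involutions interchanging `a` and `b` and commuting with `t` -/
theorem swap_iff {g : G} : (g * g = 1 ∧ g • a = b ∧ g * t = t * g) ↔ g = s ∨ g = s * t := by
  constructor
  · rintro ⟨g2, ga, gt⟩
    rcases F.coset sa (swap_back s2 sa) ga (swap_back g2 ga) st gt with e | e | rfl | rfl
    exacts [Or.inl e, Or.inr e, absurd ((hS.su_sq F s2 sa st).symm.trans g2) F.t1,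
      absurd ((hS.stu_sq F s2 sa st).symm.trans g2) F.t1]
  · rintro (rfl | rfl)
    · exact ⟨s2, sa, st⟩
    · exact ⟨hS.st_sq F s2 sa st, F.swap_mul sa (by simp), by rw [← mul_assoc, st]⟩

/-- the square roots of `t` carrying `a` to `b` -/
theorem root_iff {g : G} : (g * g = t ∧ g • a = b) ↔ g = s * u ∨ g = s * (t * u) := by
  constructor
  · rintro ⟨g2, ga⟩
    rcases F.coset sa (swap_back s2 sa) ga (swap_of_sq (by rw [g2, F.ta]) ga) st
      (by rw [← g2, mul_assoc]) with rfl | rfl | e | e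
    exacts [absurd (g2.symm.trans s2) F.t1,
      absurd (g2.symm.trans (hS.st_sq F s2 sa st)) F.t1, Or.inl e, Or.inr e]
  · rintro (rfl | rfl)
    · exact ⟨hS.su_sq F s2 sa st, F.swap_mul sa (by simp)⟩
    · exact ⟨hS.stu_sq F s2 sa st, F.swap_mul sa (by simp)⟩

theorem card_swap_t : Nat.card {g : G // g * g = 1 ∧ g • a = b ∧ g * t = t * g} = 2 :=
  card_eq_two_of (a := s) (b := s * t) (by simpa using F.t1) fun _ => hS.swap_iff F s2 sa st

end TyS

namespace A4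

variable (h : A4 G Ω)
include h

/-- an involution of the class interchanging `a` and `b` and commuting with `t` -/
theorem exists_swap {a b : Ω} {t u k : G} (F : Fr a b t u k) :
    ∃ s : G, D Ω s ∧ s • a = b ∧ s * t = t * s := by
  obtain ⟨s, hs, sa⟩ := h.exists_D_swap F.ne
  obtain ⟨g, -, h1, h2⟩ := F.swap_move hs.2.1 sa
  exact ⟨_, hs.conj g, h1, h2⟩

theorem exists_s0 (hP : TyP G Ω) {a b : Ω} {t u k : G} (F : Fr a b t u k) :
    ∃ s : G, s * s = 1 ∧ s • a = b ∧ s * k = k * s :=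
  let ⟨_, hs, sa⟩ := h.exists_D_swap F.ne
  hP.exists_s0' F hs.2.1 sa

theorem s0D_or (hP : TyP G Ω) : S0D G Ω ∨ P3 G Ω := by
  by_cases h0 : S0D G Ω
  · exact Or.inl h0
  right
  simp only [S0D, not_forall] at h0
  obtain ⟨a, b, t, u, k, s, F, s2, sa, sk, hs⟩ := h0
  have key : ∀ g, g * g = 1 → g • a = b → (D Ω g ↔ g ≠ s) := by
    have h1 := hP.D_rot F s2 sa sk
    have h2 : D Ω (s * t) := by
      obtain ⟨g, hg, ga⟩ := h.exists_D_swap F.ne
      rcases (hP.swap_iff F s2 sa).1 ⟨hg.2.1, ga⟩ with rfl | rfl | rfl | rfl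
      exacts [absurd hg hs, hg, h1.1.1 hg, h1.2.1 hg]
    intro g g2 ga
    refine ⟨fun hg e => hs (e ▸ hg), fun hg => ?_⟩
    rcases (hP.swap_iff F s2 sa).1 ⟨g2, ga⟩ with rfl | rfl | rfl | rfl
    exacts [absurd rfl hg, h2, h1.1.2 h2, h1.2.2 h2]
  intro c d t' u' k' s' F' s2' sa'
  obtain ⟨g, rfl, rfl⟩ := h.two F'.ne F.ne
  have F2 := F'.conj g
  have g2 := H42.conj_mul_self s2' g
  have ga : (g * s' * g⁻¹) • g • c = g • d := by rw [conj_smul_eq, sa']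
  have sk2 : s * (g * k' * g⁻¹) = g * k' * g⁻¹ * s := by
    obtain ⟨w, w2, wa, wk⟩ := hP.exists_s0' F2 s2 sa
    by_contra hc
    have hw : D Ω w := (key w w2 wa).2 fun e => hc (e ▸ wk)
    have h1 := hP.D_rot F2 w2 wa wk
    rcases (hP.swap_iff F2 w2 wa).1 ⟨s2, sa⟩ with e | e | e | e
    · exact hs (e ▸ hw)
    · exact hs (e ▸ h1.1.1 ((key _ (hP.sq F2 w2 wa (by simp)) (F2.swap_mul wa (by simp))).2
        (by rw [e]; simpa using F2.ut)))
    · exact hs (e ▸ h1.1.2 ((key _ (hP.sq F2 w2 wa (by simp)) (F2.swap_mul wa (by simp))).2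
        (by rw [e]; simpa using F2.ut.symm)))
    · exact hs (e ▸ h1.2.2 ((key _ (hP.sq F2 w2 wa (by simp)) (F2.swap_mul wa (by simp))).2
        (by rw [e, Ne, mul_right_inj]; exact F2.tu_t.symm)))
  rw [← D_conj_iff (k := g), key _ g2 ga]
  refine not_congr ⟨fun e => ?_, fun e => hP.s0_unique F2 s2 sa sk2 g2 ga ?_⟩
  · rw [← e, conj_mul, conj_mul] at sk2
    simpa using sk2
  · rw [conj_mul, conj_mul, e]

theorem allD_of_S (hS : TyS G Ω) : AllD G Ω := by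
  intro x x2 x1
  obtain ⟨c, hc⟩ := h.moved x1
  obtain ⟨t, u, k, F⟩ := h.exists_fr hc.symm
  obtain ⟨g, -, h1, h2⟩ := F.swap_move x2 rfl
  obtain ⟨s, hs, sa, st⟩ := h.exists_swap F
  rw [← D_conj_iff (k := g)]
  rcases (hS.swap_iff F hs.2.1 sa st).1 ⟨H42.conj_mul_self x2 g, h1, h2⟩ with e | e <;> rw [e]
  · exact hs
  · rw [← hS.u_conj F hs.2.1 sa st]; exact hs.conj u

theorem allD_conj (hA : AllD G Ω) {x y : G} (x2 : x * x = 1) (x1 : x ≠ 1) (y2 : y * y = 1)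
    (y1 : y ≠ 1) : ∃ g : G, g * x * g⁻¹ = y := h.conjD (hA x x2 x1) (hA y y2 y1)

theorem beta_S [Finite G] (hS : TyS G Ω) {a b : Ω} (hab : a ≠ b) :
    Nat.card {s : G // D Ω s ∧ s • a = b} = 6 := by
  obtain ⟨t, u, k, F⟩ := h.exists_fr hab
  have key : ∀ {t u k : G}, Fr a b t u k →
      Nat.card {g : G // g * g = 1 ∧ g • a = b ∧ g * t = t * g} = 2 := fun F =>
    let ⟨_, hs, sa, st⟩ := h.exists_swap F; hS.card_swap_t F hs.2.1 sa st
  have r2 : Fr a b (t * u) t k := by simpa only [F.utu] using F.rot.rot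
  rw [card_and_split _ fun g => g * t = t * g, card_and_split (fun g => _ ∧ ¬ g * t = t * g)
    fun g => g * u = u * g, ← show 2 + (2 + 2) = 6 from rfl]
  have nd : ∀ g : G, g * g = 1 → g • a = b → D Ω g := fun g g2 ga =>
    h.allD_of_S hS g g2 fun e => hab (by rw [← ga, e, one_smul])
  congr 1
  · rw [← key F]
    exact card_sub_congr fun g => ⟨fun hg => ⟨hg.1.1.2.1, hg.1.2, hg.2⟩,
      fun hg => ⟨⟨nd g hg.1 hg.2.1, hg.2.1⟩, hg.2.2⟩⟩
  congr 1
  · rw [← key F.rot]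
    exact card_sub_congr fun g => ⟨fun hg => ⟨hg.1.1.1.2.1, hg.1.1.2, hg.2⟩,
      fun hg => ⟨⟨⟨nd g hg.1 hg.2.1, hg.2.1⟩, fun e => hS F hg.1 hg.2.1 ⟨e, hg.2.2⟩⟩, hg.2.2⟩⟩
  · rw [← key r2]
    exact card_sub_congr fun g => ⟨fun hg => ⟨hg.1.1.1.2.1, hg.1.1.2,
      ((F.swap_fix hg.1.1.1.2.1 hg.1.1.2).resolve_left hg.1.2).resolve_left hg.2⟩,
      fun hg => ⟨⟨⟨nd g hg.1 hg.2.1, hg.2.1⟩, fun e => hS r2 hg.1 hg.2.1 ⟨hg.2.2, e⟩⟩,
        fun e => hS F.rot hg.1 hg.2.1 ⟨e, hg.2.2⟩⟩⟩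

theorem beta_all (hP : TyP G Ω) (hA : AllD G Ω) {a b : Ω} (hab : a ≠ b) :
    Nat.card {s : G // D Ω s ∧ s • a = b} = 4 := by
  obtain ⟨t, u, k, F⟩ := h.exists_fr hab
  obtain ⟨s, hs, sa⟩ := h.exists_D_swap hab
  rw [← hP.card_swap F hs.2.1 sa]
  exact card_sub_congr fun g => ⟨fun hg => ⟨hg.1.2.1, hg.2⟩,
    fun hg => ⟨hA g hg.1 fun e => hab (by rw [← hg.2, e, one_smul]), hg.2⟩⟩

/-- in the case `P3`, the unique swap outside the class -/
theorem p3_iff (hP : TyP G Ω) (h3 : P3 G Ω) {a b : Ω} {t u k s : G} (F : Fr a b t u k)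
    (s2 : s * s = 1) (sa : s • a = b) (sk : s * k = k * s) {g : G} :
    (g * g = 1 ∧ g • a = b ∧ ¬ D Ω g) ↔ g = s := by
  have _ := h
  refine ⟨fun hg => hP.s0_unique F s2 sa sk hg.1 hg.2.1 ?_, ?_⟩
  · exact not_not.1 fun e => hg.2.2 ((h3 F hg.1 hg.2.1).2 e)
  · rintro rfl
    exact ⟨s2, sa, fun e => (h3 F s2 sa).1 e sk⟩

theorem beta_three [Finite G] (hP : TyP G Ω) (h3 : P3 G Ω) {a b : Ω} (hab : a ≠ b) :
    Nat.card {s : G // D Ω s ∧ s • a = b} = 3 := by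
  obtain ⟨t, u, k, F⟩ := h.exists_fr hab
  obtain ⟨s, s2, sa, sk⟩ := h.exists_s0 hP F
  have h1 := card_and_ne (P := fun g : G => g * g = 1 ∧ g • a = b) (a := s) ⟨s2, sa⟩
  rw [hP.card_swap F s2 sa] at h1
  rw [show 3 = Nat.card {g : G // (g * g = 1 ∧ g • a = b) ∧ g ≠ s} by omega]
  exact card_sub_congr fun g => ⟨fun hg => ⟨⟨hg.1.2.1, hg.2⟩, fun e =>
    ((h.p3_iff hP h3 F s2 sa sk).2 e).2.2 hg.1⟩, fun hg => ⟨not_not.1 fun e =>
      hg.2 ((h.p3_iff hP h3 F s2 sa sk).1 ⟨hg.1.1, hg.1.2, e⟩), hg.1.2⟩⟩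

end A4

namespace Par

variable [Finite G] [Finite Ω] {f e : ℕ} (h : Par G Ω f e)
include h

omit [Finite G] in
/-- case B: some big partner of `t` interchanges `a` and `b` -/
theorem bp_swap (he : e < f) {a b : Ω} {t u k : G} (F : Fr a b t u k) :
    ∃ y : G, BP Ω t y ∧ y • a = b := by
  obtain ⟨c, tc, uc⟩ := h.movedB he F
  obtain ⟨g, hg, ga, gb⟩ := h.two_C F.t1 F.t2 uc.symm F.ne tc (fix_of_comm F.comm.symm tc) F.ta F.tb
  exact ⟨_, F.bp.conj' hg, by rw [← ga, conj_smul_eq, gb]⟩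

omit [Finite G] in
theorem allD_of_B (he : e < f) (hP : TyP G Ω) (h0 : S0D G Ω) : AllD G Ω := by
  intro x x2 x1
  obtain ⟨c, hc⟩ := h.moved x1
  obtain ⟨t, u, k, F⟩ := h.exists_fr hc.symm
  obtain ⟨s, s2, sa, sk⟩ := h.exists_s0 hP F
  have h1 := hP.D_rot F s2 sa sk
  have h2 : D Ω (s * t) := by
    obtain ⟨y, hy, ya⟩ := h.bp_swap he F
    obtain ⟨_, _, _, F'⟩ := h.fr_bp F.Dt hy
    rcases (hP.swap_iff F s2 sa).1 ⟨hy.D.2.1, ya⟩ with rfl | rfl | rfl | rfl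
    exacts [F'.comm ▸ F'.Dtu, hy.D, h1.1.1 hy.D, h1.2.1 hy.D]
  rcases (hP.swap_iff F s2 sa).1 ⟨x2, rfl⟩ with e | e | e | e <;> rw [e]
  exacts [h0 F s2 sa sk, h2, h1.1.2 h2, h1.2.2 h2]

theorem n_S (hS : TyS G Ω) : Nat.card Ω = f * (2 * f - 1) := by
  obtain ⟨a, b, _, _, _, F⟩ := h.fr
  have := h.count F.ne
  rw [h.beta_S hS F.ne] at this
  obtain ⟨m, rfl⟩ := Nat.exists_eq_add_of_le' ((one_le_two.trans h.two_le_e).trans h.e_le_f)
  rw [Nat.add_sub_cancel] at this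
  rw [show 2 * (m + 1) - 1 = 2 * m + 1 by omega]
  nlinarith

theorem n_three (hP : TyP G Ω) (h3 : P3 G Ω) : Nat.card Ω = f * f := by
  obtain ⟨a, b, _, _, _, F⟩ := h.fr
  have := h.count F.ne
  rw [h.beta_three hP h3 F.ne] at this
  obtain ⟨m, rfl⟩ := Nat.exists_eq_add_of_le' ((one_le_two.trans h.two_le_e).trans h.e_le_f)
  rw [Nat.add_sub_cancel] at this
  nlinarith

theorem n_all (hP : TyP G Ω) (hA : AllD G Ω) : 3 * Nat.card Ω = f * (4 * f - 1) := by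
  obtain ⟨a, b, _, _, _, F⟩ := h.fr
  have := h.count F.ne
  rw [h.beta_all hP hA F.ne] at this
  obtain ⟨m, rfl⟩ := Nat.exists_eq_add_of_le' ((one_le_two.trans h.two_le_e).trans h.e_le_f)
  rw [Nat.add_sub_cancel] at this
  rw [show 4 * (m + 1) - 1 = 4 * m + 3 by omega]
  nlinarith

end Par

end Cfsg.Agent.TA4
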