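/-
Two-point stabilisers `A₄`, degree 16: the affine group of the plane over the field with four
elements.
-/
import Cfsg.Agent.TA4.Types
import Cfsg.Agent.TA4.Aff
import Cfsg.Agent.H8.Dihedral

set_option autoImplicit false

namespace Cfsg.Agent.TA4

open Cfsg MulAction H12

variable {G Ω : Type*} [Group G] [MulAction G Ω] [Finite G] [Finite Ω] {f e : ℕ}

namespace AG

omit [Finite G] in
theorem fpf (he : Even (Nat.card Ω)) {y : G} (y2 : y * y = 1) (y1 : y ≠ 1) (hy : ¬ D Ω y)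
    (c : Ω) : y • c ≠ c := fun yc => by
  obtain ⟨b, hb, -, e⟩ := KOS.second_fix (S := fun _ : Ω => True) (w := y) (fun _ _ => trivial)
    (fun c _ => by rw [← mul_smul, y2, one_smul])
    (by rwa [Nat.card_congr (Equiv.subtypeUnivEquiv fun _ => trivial)]) (a := c) trivial yc
  exact hy ⟨y1, y2, c, b, hb.symm, yc, e⟩

theorem regN (h : A4 G Ω) (hP : TyP G Ω) (h3 : P3 G Ω) (hn : Nat.card Ω = 16) : RegN G Ω := by
  have he : Even (Nat.card Ω) := by rw [hn]; decide
  let S : Set G := {y | y * y = 1 ∧ y ≠ 1 ∧ ¬ D Ω y}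
  have hS : ∀ g : G, ∀ x ∈ S, g * x * g⁻¹ ∈ S := fun g x hx =>
    ⟨H42.conj_mul_self hx.1 g, by simpa using hx.2.1, by rw [D_conj_iff]; exact hx.2.2⟩
  have uq : ∀ x ∈ S, ∀ y ∈ S, ∀ c : Ω, x • c = y • c → x = y := fun x hx y hy c e => by
    obtain ⟨t, u, k, F⟩ := h.exists_fr (fpf he hy.1 hy.2.1 hy.2.2 c).symm
    obtain ⟨s, s2, sa, sk⟩ := h.exists_s0 hP F
    rw [(h.p3_iff hP h3 F s2 sa sk).1 ⟨hx.1, e, hx.2.2⟩,
      (h.p3_iff hP h3 F s2 sa sk).1 ⟨hy.1, rfl, hy.2.2⟩]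
  have pg : IsPGroup 2 (Subgroup.normalClosure S) := H8.baer_suzuki_closure S hS fun x hx y hy => by
    refine H8.isPGroup_closure_pair hx.1 hy.1 (n := 4) (orderOf_dvd_iff_pow_eq_one.1 ?_)
    have := card_dvd_of_semireg (Subgroup.zpowers (x * y)) (fun _ : Ω => True)
      (fun _ _ _ _ => trivial) (by
        rintro _ ⟨k, rfl⟩ c - hc
        have hr : x * (x * y) ^ k ∈ S := by
          rcases H8.isConj_refl hx.1 hy.1 k with e | e <;> obtain ⟨g, hg⟩ := isConj_iff.1 e <;>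
            rw [← hg]
          exacts [hS g x hx, hS g y hy]
        have := uq _ hr _ hx c (by rw [mul_smul]; exact congrArg _ hc)
        simpa using this)
    rwa [Nat.card_zpowers, Nat.card_congr (Equiv.subtypeUnivEquiv fun _ => trivial), hn] at this
  obtain ⟨a, b, t, u, k, F⟩ := h.fr
  obtain ⟨s, s2, sa, sk⟩ := h.exists_s0 hP F
  have s1 : s ≠ 1 := fun e => F.ne (by rw [← sa, e, one_smul])
  have hs : s ∈ S := ⟨s2, s1, ((h.p3_iff hP h3 F s2 sa sk).2 rfl).2.2⟩
  have := pg.isNilpotent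
  exact h.regN_of_solvable Subgroup.normalClosure_normal
    (fun e => s1 (Subgroup.mem_bot.1 (e ▸ Subgroup.subset_normalClosure hs))) inferInstance

/-- the stabiliser of the set of fixed points of `t` -/
def Ln (Ω : Type*) {G : Type*} [Group G] [MulAction G Ω] (t : G) : Subgroup G where
  carrier := {g | ∀ c : Ω, t • g • c = g • c ↔ t • c = c}
  one_mem' := fun c => by simp
  mul_mem' := fun {x y} hx hy c => by rw [mul_smul, hx, hy]
  inv_mem' := fun {x} hx c => by rw [← hx, smul_inv_smul]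

omit [Finite G] [Finite Ω] in
theorem mem_Ln {t g : G} : g ∈ Ln Ω t ↔ ∀ c : Ω, t • g • c = g • c ↔ t • c = c := Iff.rfl

omit [Finite G] in
theorem H_le (h : Par G Ω f f) {a b : Ω} {t u k : G} (F : Fr a b t u k) : Hs G a b ≤ Ln Ω t := by
  have fx : ∀ v : G, (v = t ∨ v = u ∨ v = t * u) → ∀ c : Ω, v • c = c ↔ t • c = c := by
    rintro v (rfl | rfl | rfl) c
    · rfl
    · refine ⟨fun hc => ?_, h.fixA rfl F⟩
      rw [← F.utu, mul_smul, h.fixA rfl F.rot hc, hc]
    · refine ⟨fun hc => ?_, fun hc => by rw [mul_smul, h.fixA rfl F hc, hc]⟩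
      simpa only [F.utu] using h.fixA rfl F.rot.rot (by simpa only using hc)
  intro g hg c
  obtain ⟨ga, gb⟩ := mem_Hs.1 ((Hs G a b).inv_mem hg)
  have e : t • g • c = g • c ↔ (g⁻¹ * t * g⁻¹⁻¹) • c = c := by
    rw [inv_inv, mul_smul, mul_smul, inv_smul_eq_iff]
  rw [e]
  refine fx _ ?_ c
  rcases F.act ga gb with h1 | h1 | h1
  · exact Or.inl (conj_eq_iff.2 (F.v_comm h1 (Or.inr (Or.inl rfl))))
  · exact Or.inr (Or.inl h1.1)
  · exact Or.inr (Or.inr h1.1)

theorem scalar (h : Par G Ω 4 4) (hn : Nat.card Ω = 16) {a b : Ω} {t u k : G}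
    (F : Fr a b t u k) : ∃ w : G, w • a = a ∧ w * w * w = 1 ∧ (∀ c : Ω, w • c = c → c = a) ∧
      ∀ x : G, x • a = a → x * w = w * x := by
  classical
  have hX : Nat.card (stabilizer G a) = 180 := by rw [h.card_stab, hn]
  have hL := h.cf F.Dt
  have hM : Nat.card ↥(Ln Ω t ⊓ stabilizer G a) = 36 := by
    rw [(card_two (Ln Ω t) (fun c : Ω => t • c = c) F.ne F.ta F.tb (fun x hx c hc => (hx c).2 hc)
      fun c d hc hd hcd => ?_).2, hL, inf_eq_right.2 (H_le h F), F.card_H]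
    obtain ⟨g, gt, g1, g2⟩ := h.two_C F.t1 F.t2 F.ne hcd F.ta F.tb hc hd
    refine ⟨g, fun x => ?_, g1, g2⟩
    rw [← mul_smul, ← gt, mul_smul, smul_left_cancel_iff]
  let M := (Ln Ω t).subgroupOf (stabilizer G a)
  have hi : M.index = 5 := by
    have := M.card_mul_index
    have cM : Nat.card M = 36 := by
      rw [← hM, ← Nat.card_congr (Subgroup.subgroupOfEquivOfLe inf_le_right).toEquiv,
        Subgroup.inf_subgroupOf_right]
    rw [hX, cM] at this
    omega
  have h3 : 3 ∣ Nat.card M.normalCore := by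
    have h1 : M.normalCore.index ∣ Nat.factorial M.index := by
      rw [Subgroup.normalCore_eq_ker, Subgroup.index_ker, Subgroup.index_eq_card, ← Nat.card_perm]
      exact Subgroup.card_subgroup_dvd_card _
    have h2 := M.normalCore.card_mul_index
    rw [hi] at h1
    rw [hX] at h2
    by_contra h4
    have h5 : Nat.Coprime 9 (Nat.card M.normalCore) :=
      Nat.Coprime.pow_left 2 ((Nat.Prime.coprime_iff_not_dvd Nat.prime_three).2 h4)
    have := (h5.dvd_of_dvd_mul_left (h2 ▸ (by decide : 9 ∣ 180))).trans h1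
    revert this
    decide
  let W := M.normalCore.map (stabilizer G a).subtype
  have cW : Nat.card W = Nat.card M.normalCore :=
    Subgroup.card_map_of_injective Subtype.val_injective
  have Wa : ∀ w ∈ W, w • a = a := by rintro _ ⟨w, -, rfl⟩; exact w.2
  have Wc : ∀ w ∈ W, ∀ x : G, x • a = a → x * w * x⁻¹ ∈ W := by
    rintro _ ⟨w, hw, rfl⟩ x hx
    exact ⟨_, M.normalCore_normal.conj_mem w hw ⟨x, hx⟩, rfl⟩
  have WL : ∀ w ∈ W, w ∈ Ln Ω t := by rintro _ ⟨w, hw, rfl⟩; exact M.normalCore_le hw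
  have W2 : ∀ v ∈ W, v * v = 1 → v = 1 := fun v hv v2 => h.faith v fun c => by
    by_cases hc : c = a
    · rw [hc, Wa v hv]
    obtain ⟨x, xa, xb⟩ := h.two (Ne.symm hc) F.ne
    have hv' := Wc v hv x xa
    have v2' := H42.conj_mul_self v2 x
    obtain ⟨d, hd, td, vd⟩ := KOS.second_fix (S := fun c : Ω => t • c = c) (w := x * v * x⁻¹)
      (fun c hc => (WL _ hv' c).2 hc) (fun c _ => by rw [← mul_smul, v2', one_smul])
      (by rw [hL]; decide) F.ta (Wa _ hv')
    obtain ⟨k', F'⟩ := h.fr_move F hd.symm F.ta td F.ua (h.fixA rfl F td)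
    have := F.v_fix (F'.inV (Wa _ hv') vd v2') F.tb F.ub
    rwa [← xb, conj_smul_eq, smul_left_cancel_iff] at this
  have Wf : ∀ w ∈ W, ∀ c : Ω, c ≠ a → w • c = c → w = 1 := fun w hw c hc wc => by
    obtain ⟨x, xa, xb⟩ := h.two (Ne.symm hc) F.ne
    have hw' := Wc w hw x xa
    have wb : (x * w * x⁻¹) • b = b := by rw [← xb]; exact conj_fix wc
    suffices x * w * x⁻¹ = 1 by simpa using this
    generalize x * w * x⁻¹ = y at hw' wb
    have hm := W.mul_mem hw' (Wc _ (W.inv_mem hw') t F.ta)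
    rw [show y * (t * y⁻¹ * t⁻¹) = y * t * y⁻¹ * t⁻¹ by group, F.ti] at hm
    rcases F.act (Wa y hw') wb with e | e | e
    · exact W2 y hw' (F.v_sq e)
    · rw [e.1, ← F.comm] at hm
      exact absurd (W2 _ hm F.tu2) F.tu1
    · rw [e.1, F.tut] at hm
      exact absurd (W2 _ hm F.u2) F.u1
  have c3 : Nat.card W = 3 := by
    have h1 := card_dvd_of_semireg W (fun c : Ω => t • c = c ∧ c ≠ a)
      (fun x hx c hc => ⟨(WL x hx c).2 hc.1, sp_smul_ne (Wa x hx) hc.2⟩)
      fun x hx c hc e => Wf x hx c hc.2 e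
    have h2 := card_and_ne (P := fun c : Ω => t • c = c) F.ta
    rw [hL] at h2
    rw [show Nat.card {c : Ω // t • c = c ∧ c ≠ a} = 3 by omega] at h1
    exact Nat.dvd_antisymm h1 (cW ▸ h3)
  have : Fact (Nat.Prime 3) := ⟨Nat.prime_three⟩
  obtain ⟨⟨w, hw⟩, ow⟩ := exists_prime_orderOf_dvd_card' (G := W) 3 (by rw [c3])
  have o3 : orderOf w = 3 := by rw [← ow, Subgroup.orderOf_mk]
  have w3 : w * w * w = 1 := by rw [← pow_three', ← o3, pow_orderOf_eq_one]
  have w1 : w ≠ 1 := fun e => by simp [e] at o3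
  have wi : w⁻¹ = w * w := inv_eq_of_mul_eq_one_left w3
  have ww : w⁻¹ ≠ w := fun e => w1 (by rw [wi] at e; simpa using e)
  have pm : ∀ x : G, x • a = a → x * w * x⁻¹ = w ∨ x * w * x⁻¹ = w⁻¹ := fun x xa => by
    have e : Subgroup.zpowers w = W := Subgroup.eq_of_le_of_card_ge
      (Subgroup.zpowers_le.2 hw) (by rw [c3, Nat.card_zpowers, o3])
    have h1 := Wc w hw x xa
    rw [← e, mem_zpowers_iff_mem_range_orderOf, o3] at h1
    obtain ⟨j, hj, e'⟩ := Finset.mem_image.1 h1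
    rw [Finset.mem_range] at hj
    interval_cases j
    · exact absurd (by simpa using e'.symm) w1
    · exact Or.inl (by rw [← e', pow_one])
    · exact Or.inr (by rw [← e', wi, sq])
  have cu : ∀ x : G, x • a = a → x * x * x = 1 → x * w * x⁻¹ = w := fun x xa x3 => by
    refine (pm x xa).resolve_right fun e => ww ?_
    have e2 : x * w⁻¹ * x⁻¹ = w := by rw [← conj_inv, e, inv_inv]
    have e3 : w = x * (x * (x * w * x⁻¹) * x⁻¹) * x⁻¹ := by
      rw [show x * (x * (x * w * x⁻¹) * x⁻¹) * x⁻¹ = x * x * x * w * (x * x * x)⁻¹ by group, x3]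
      simp
    rw [e, e2, e] at e3
    exact e3.symm
  have HC : Hs G a b ≤ stabilizer G a ⊓ Subgroup.centralizer ({w} : Set G) := fun x hx => by
    obtain ⟨xa, xb⟩ := mem_Hs.1 hx
    refine ⟨xa, mem_Ct.2 (conj_eq_iff.1 ?_)⟩
    rcases F.cube xa xb with e | e
    · have xk : (x * k) • a = a := by rw [mul_smul, F.ha, xa]
      rcases F.cube xk (by rw [mul_smul, F.hb, xb]) with e' | e'
      · have h1 := F.v_mul e e'
        rw [← mul_assoc, F.v_sq e, one_mul] at h1
        have h2 := F.ht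
        rw [conj_eq_iff.2 (F.v_comm h1 (Or.inr (Or.inl rfl)))] at h2
        exact absurd h2.symm F.ut
      · have h1 := cu _ xk e'
        rwa [show x * k * w * (x * k)⁻¹ = x * (k * w * k⁻¹) * x⁻¹ by group, cu k F.ha F.h3] at h1
    · exact cu x xa e
  refine ⟨w, Wa w hw, w3, fun c hc => by_contra fun hca => w1 (Wf w hw c hca hc), fun x xa => ?_⟩
  have h1 := card_conj_orbit (stabilizer G a) w
  have h2 := Subgroup.card_dvd_of_le HC
  have h4 : Nat.card {y // ∃ x ∈ stabilizer G a, x * w * x⁻¹ = y} ≤ 2 := by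
    rw [← card_eq_two_of (P := fun y => y = w⁻¹ ∨ y = w) ww fun _ => Iff.rfl]
    refine card_sub_le ?_
    rintro _ ⟨x, xa, rfl⟩
    exact (pm x xa).symm
  rw [F.card_H] at h2
  have h5 : stabilizer G a ⊓ Subgroup.centralizer ({w} : Set G) = stabilizer G a :=
    Subgroup.eq_of_le_of_card_ge inf_le_left (by
      rw [hX] at h1 ⊢
      generalize Nat.card {y // ∃ x ∈ stabilizer G a, x * w * x⁻¹ = y} = m at h1 h4
      interval_cases m <;> omega)
  exact mem_Ct.1 (h5.ge xa).2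

end AG

theorem Par.agl (h : Par G Ω 4 4) (hP : TyP G Ω) (h3 : P3 G Ω) :
    ∃ (F : Type) (_ : Field F) (_ : Fintype F), Fintype.card F = 4 ∧
      Nonempty (G ≃* ((Fin 2 → F) ≃ᵃ[F] (Fin 2 → F))) := by
  have hn : Nat.card Ω = 16 := h.n_three hP h3
  obtain ⟨R, hR, tr, reg⟩ := AG.regN h.toA4 hP h3 hn
  obtain ⟨a, b, t, u, k, F⟩ := h.fr
  obtain ⟨w, wa, w3, wf, wc⟩ := AG.scalar h hn F
  obtain ⟨sq, comm⟩ := KOS.reg_sq h.toT2 (by rw [hn]; decide) hR tr reg
  exact ⟨H9.F4, inferInstance, inferInstance, H9.card_F4, aff_of_scalar h.faith tr reg sq comm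
    ((KOS.card_reg tr reg a).trans hn) (by rw [h.card_G, hn]) wa w3 wf wc⟩

end Cfsg.Agent.TA4
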