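import Cfsg.Agent.TA4.Types

set_option autoImplicit false
set_option linter.unusedSectionVars false

namespace Cfsg.Agent.TA4

open Cfsg MulAction H12

variable {G Ω : Type*} [Group G] [MulAction G Ω] [Finite G] [Finite Ω] {f e : ℕ}

/-- an involution on a set of odd size has a fixed point -/
theorem pc_fix {S : Ω → Prop} {y : G} (hS : ∀ c, S c → S (y • c)) (y2 : y * y = 1)
    (ho : Odd (Nat.card {c // S c})) : ∃ c, S c ∧ y • c = c := by
  by_contra hn
  exact (Nat.not_even_iff_odd.2 ho) (KOS.even_of_fpf hS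
    (fun c _ => by rw [← mul_smul, y2, one_smul]) fun c hc e => hn ⟨c, hc, e⟩)

theorem pc_one {S : Ω → Prop} {y : G} (hS : ∀ c, S c → S (y • c)) (y2 : y * y = 1)
    (ho : Odd (Nat.card {c // S c})) (h1 : ∀ c d, S c → S d → y • c = c → y • d = d → c = d) :
    ∃ c, ∀ d, S d ∧ y • d = d ↔ d = c :=
  let ⟨c, hc, e⟩ := pc_fix hS y2 ho
  ⟨c, fun d => ⟨fun h => h1 d c h.1 hc h.2 e, fun h => h ▸ ⟨hc, e⟩⟩⟩

theorem pc_eq {α : Type*} {P : α → Prop} (h : Nat.card {x // P x} = 1) {x y : α} (hx : P x)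
    (hy : P y) : x = y :=
  congrArg Subtype.val ((Nat.card_eq_one_iff_unique.1 h).1.elim (⟨x, hx⟩ : {x // P x}) ⟨y, hy⟩)

/-- in case A the involutions of the four-group have the same fixed points -/
theorem Par.fixV (h : Par G Ω f e) (he : e = f) {a b : Ω} {t u k v : G} (F : Fr a b t u k)
    (hv : v = 1 ∨ v = t ∨ v = u ∨ v = t * u) (v1 : v ≠ 1) {c : Ω} : v • c = c ↔ t • c = c := by
  refine ⟨fun hc => ?_, fun hc => F.v_fix hv hc (h.fixA he F hc)⟩
  rcases hv with rfl | rfl | rfl | rfl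
  · exact absurd rfl v1
  · exact hc
  · simpa only [F.utu] using h.fixA he F.rot.rot (h.fixA he F.rot hc)
  · simpa only [F.utu] using h.fixA he F.rot.rot hc

/-- in case A an involution fixing two points of `Fix t` lies in the four-group -/
theorem Par.inVA (h : Par G Ω f e) (he : e = f) {a b : Ω} {t u k y : G} (F : Fr a b t u k)
    (y2 : y * y = 1) {c d : Ω} (hcd : c ≠ d) (tc : t • c = c) (td : t • d = d) (yc : y • c = c)
    (yd : y • d = d) : y = 1 ∨ y = t ∨ y = u ∨ y = t * u :=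
  let ⟨_, F'⟩ := h.fr_move F hcd tc td (h.fixA he F tc) (h.fixA he F td)
  F'.inV yc yd y2

end Cfsg.Agent.TA4
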