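import Cfsg.Agent.TA4.Ker
import Cfsg.Agent.TA4.PCom
import Cfsg.Agent.H75.QuatBasic
import Cfsg.Agent.S1220

set_option autoImplicit false
set_option linter.unusedSectionVars false

namespace Cfsg.Agent.TA4

open Cfsg MulAction H12

variable {G Ω : Type*} [Group G] [MulAction G Ω] [Finite G] [Finite Ω] {f e : ℕ}

/-- the stabiliser of the set of fixed points of `t` -/
def SF (Ω : Type*) {G : Type*} [Group G] [MulAction G Ω] (t : G) : Subgroup G where
  carrier := {g | ∀ c : Ω, t • g • c = g • c ↔ t • c = c}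
  one_mem' := fun c => by simp
  mul_mem' := fun {g k} hg hk c => by rw [mul_smul, hg, hk]
  inv_mem' := fun {g} hg c => by rw [← hg, smul_inv_smul]

theorem pa4_uniq {X : Type*} [Group X] [Finite X]
    (h : IsCyclic X ∨ ∃ m : ℕ, 1 ≤ m ∧ Nonempty (X ≃* QuaternionGroup (2 ^ m))) {x y : X}
    (x2 : x * x = 1) (y2 : y * y = 1) (x1 : x ≠ 1) (y1 : y ≠ 1) : x = y := by
  classical
  rcases h with h | ⟨m, -, ⟨φ⟩⟩
  · by_contra hne
    have := Fintype.ofFinite X
    have h1 := Finset.card_le_card (s := {1, x, y}) (t := Finset.univ.filter fun a : X => a ^ 2 = 1)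
      (by intro z hz; simp only [Finset.mem_insert, Finset.mem_singleton] at hz
          rcases hz with rfl | rfl | rfl <;> simp [sq, *])
    rw [Finset.card_eq_three.2 ⟨_, _, _, x1.symm, y1.symm, hne, rfl⟩] at h1
    exact absurd (h1.trans (IsCyclic.card_pow_eq_one_le two_pos)) (by norm_num)
  · exact φ.injective (((H75.quat_mul_self_eq_one (by rw [← map_mul, x2, map_one])).resolve_left
      (by simpa using x1)).trans ((H75.quat_mul_self_eq_one (by
        rw [← map_mul, y2, map_one])).resolve_left (by simpa using y1)).symm)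

theorem Par.pa4_conj (h : Par G Ω f e) (he : e = f) {a b : Ω} {t u k g : G} (F : Fr a b t u k)
    (h1 : g⁻¹ * t * g = 1 ∨ g⁻¹ * t * g = t ∨ g⁻¹ * t * g = u ∨ g⁻¹ * t * g = t * u) :
    g ∈ SF Ω t := fun c => by
  rw [← h.fixV he F h1 (by simpa [mul_assoc, inv_mul_eq_iff_eq_mul] using F.t1) (c := c), mul_smul,
    mul_smul, inv_smul_eq_iff]

theorem Par.pa4_inv (h : Par G Ω f e) (he : e = f) (ho : Even f) {a b : Ω} {t u k y : G}
    (F : Fr a b t u k) (y2 : y * y = 1) (y1 : y ≠ 1) (ya : y • a = a) (hy : y ∈ SF Ω t) {c : Ω} :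
    y • c = c ↔ t • c = c := by
  obtain ⟨d, hd, td, yd⟩ := KOS.second_fix (S := fun c : Ω => t • c = c) (fun c hc => (hy c).2 hc)
    (fun c _ => by rw [← mul_smul, y2, one_smul]) (by rwa [h.cf F.Dt]) F.ta ya
  exact h.fixV he F (h.inVA he F y2 hd td F.ta yd ya) y1

theorem Par.pa_four (h : Par G Ω f e) (hP : TyP G Ω) (h3 : P3 G Ω) (he : e = f) (ho : Even f) :
    f = 4 := by
  obtain ⟨a, b, t, u, k, F⟩ := h.fr
  obtain ⟨j, hj⟩ := h.e_pow hP (he ▸ ho)
  have hn := h.n_three hP h3
  have h2 : 2 ≤ f := he ▸ h.two_le_e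
  have hH : Hs G a b ≤ SF Ω t := fun g hg => h.pa4_conj he F (F.inV
    (by rw [mul_smul, mul_smul, hg.1, F.ta, inv_smul_eq_iff, hg.1])
    (by rw [mul_smul, mul_smul, hg.2, F.tb, inv_smul_eq_iff, hg.2])
    (by simpa using H42.conj_mul_self F.t2 g⁻¹))
  have c1 := (card_two (SF Ω t) (fun c : Ω => t • c = c) F.ne F.ta F.tb (fun x hx c hc => (hx c).2 hc)
    fun c d tc td hcd => let ⟨g, hg, e⟩ := h.two_C F.t1 F.t2 F.ne hcd F.ta F.tb tc td
      ⟨g, h.pa4_conj he F (by simp [mul_assoc, ← hg]), e⟩).2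
  rw [h.cf F.Dt, inf_eq_right.2 hH, F.card_H] at c1
  set M := (SF Ω t).subgroupOf (stabilizer G a) with hM
  have c2 : Nat.card M = (f - 1) * 12 := by
    rw [← c1, hM, ← Subgroup.inf_subgroupOf_right]
    exact Nat.card_congr (Subgroup.subgroupOfEquivOfLe inf_le_right).toEquiv
  have c3 : M.index = f + 1 := by
    have := M.card_mul_index
    rw [c2, h.card_stab, hn] at this
    obtain ⟨m, rfl⟩ : ∃ m, f = m + 2 := ⟨f - 2, by omega⟩
    have e1 : (m + 2) * (m + 2) - 1 = (m + 1) * (m + 3) := by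
      rw [Nat.sub_eq_iff_eq_add (by nlinarith)]; ring
    rw [e1, show m + 2 - 1 = m + 1 from rfl] at this
    exact Nat.eq_of_mul_eq_mul_left (show 0 < (m + 1) * 12 by omega) (by rw [this]; ring)
  have hse : IsStronglyEmbedded M := by
    refine ⟨fun e => by rw [e, Subgroup.index_top] at c3; omega, by rw [c2]; exact Even.mul_left (by norm_num) _,
      fun g hg => ?_⟩
    rw [← Nat.not_even_iff_odd, even_iff_two_dvd]
    intro hd
    obtain ⟨⟨y, hy, z, hz, rfl⟩, h1⟩ := exists_prime_orderOf_dvd_card' 2 hd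
    have h4 : orderOf ((z : stabilizer G a) : G) = 2 := by
      rw [Subgroup.orderOf_coe, ← (MulAut.conj g).orderOf_eq z, ← h1]
      exact Subgroup.orderOf_coe ⟨_, _⟩
    have z2 : (z : G) * z = 1 := by rw [← sq, ← h4, pow_orderOf_eq_one]
    have z1 : (z : G) ≠ 1 := fun e => by simp [e] at h4
    refine hg fun c => ?_
    refine (h.pa4_inv he ho F (y := g * z * (g : G)⁻¹) (H42.conj_mul_self z2 _) (by simpa using z1)
      (g * z * g⁻¹).2 hy (c := (g : G) • c)).symm.trans ?_
    rw [conj_smul_eq, smul_left_cancel_iff, h.pa4_inv he ho F z2 z1 z.2 hz]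
  have hd : f ∣ (f - 1) * 12 := by
    rcases S1220.result M hse with h4 | ⟨h4, -⟩
    · obtain ⟨g, hg⟩ : ∃ g, g ∉ M := by
        by_contra hn
        exact hse.1 (eq_top_iff.2 fun g _ => by_contra fun e => hn ⟨g, e⟩)
      have i : ∀ x : stabilizer G a, (x : stabilizer G a ⧸ M) ≠ (1 : stabilizer G a) ↔ x ∉ M :=
        fun x => by rw [Ne, eq_comm, QuotientGroup.eq, inv_one, one_mul]
      have h5 := card_trans M (fun c : stabilizer G a ⧸ M => c ≠ (1 : stabilizer G a))
        (a := (g : stabilizer G a ⧸ M)) (fun x hx => (i (x * g)).2 fun e =>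
          hg ((M.mul_mem_cancel_left hx).1 e)) fun c hc => by
          obtain ⟨c, rfl⟩ := QuotientGroup.mk_surjective c
          obtain ⟨x, hx, e⟩ := h4 g c hg ((i c).1 hc)
          exact ⟨x, hx, (QuotientGroup.eq.2 e).symm⟩
      have h6 := card_ne ((1 : stabilizer G a) : stabilizer G a ⧸ M)
      rw [← Subgroup.index_eq_card, c3, Nat.add_right_cancel_iff] at h6
      rw [h6, c2] at h5
      exact Dvd.intro _ h5
    · let T : stabilizer G a := ⟨t, F.ta⟩
      let U : stabilizer G a := ⟨u, F.ua⟩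
      have T2 : T * T = 1 := Subtype.ext F.t2
      have U2 : U * U = 1 := Subtype.ext F.u2
      have hp : IsPGroup 2 (Subgroup.closure {T, U}) := fun x => ⟨1, Subtype.ext (by
        obtain ⟨x, hx⟩ := x
        have : (x : G) = 1 ∨ (x : G) = t ∨ (x : G) = u ∨ (x : G) = t * u := by
          induction hx using Subgroup.closure_induction with
          | mem x hx => rcases hx with rfl | rfl <;> simp [T, U]
          | one => simp
          | mul x y _ _ hx hy => exact F.v_mul hx hy
          | inv x _ hx => rwa [Subgroup.coe_inv, inv_of_sq (F.v_sq hx)]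
        exact Subtype.ext (by simpa [sq] using F.v_sq this))⟩
      obtain ⟨S, hS⟩ := hp.exists_le_sylow
      have := pa4_uniq (h4 S) (x := ⟨U, hS (Subgroup.subset_closure (by simp))⟩)
        (y := ⟨T, hS (Subgroup.subset_closure (by simp))⟩) (Subtype.ext U2) (Subtype.ext T2)
        (fun e => F.u1 (congrArg (fun x : S => ((x : stabilizer G a) : G)) e))
        fun e => F.t1 (congrArg (fun x : S => ((x : stabilizer G a) : G)) e)
      exact absurd (congrArg (fun x : S => ((x : stabilizer G a) : G)) this) F.ut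
  have h12 : f ∣ 12 := (Nat.coprime_self_sub_right (by omega) |>.2 (by simp) :
    f.Coprime (f - 1)).dvd_of_dvd_mul_left hd
  have hf2 : f ≠ 2 := by
    rintro rfl
    classical
    have := Fintype.ofFinite Ω
    have := h.faithful
    have h5 := Nat.card_le_card_of_injective _ (MulAction.toPerm_injective (α := G) (β := Ω))
    rw [h.card_G, Nat.card_perm, hn] at h5
    exact absurd h5 (by decide)
  have h7 := Nat.le_of_dvd (by norm_num) h12
  rw [he] at hj
  subst hj
  have : j < 4 := by_contra fun e => absurd ((Nat.pow_le_pow_right two_pos (not_lt.1 e)).trans h7) (by norm_num)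
  interval_cases j <;> simp_all

end Cfsg.Agent.TA4
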