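/-
Two-point stabilisers `A₄`, type `A₄ × 2`, `e` even: the Frobenius kernel on the fixed points of
the four-group.
-/
import Cfsg.Agent.TA4.Types

set_option autoImplicit false

namespace Cfsg.Agent.TA4

open Cfsg MulAction H12

variable {G Ω : Type*} [Group G] [MulAction G Ω] [Finite G] [Finite Ω] {f e : ℕ}

omit [Finite G] [Finite Ω] in
theorem A4.inV_two (h : A4 G Ω) {a b c d : Ω} {t u k x : G} (F : Fr a b t u k) (hcd : c ≠ d)
    (hc : t • c = c ∧ u • c = c) (hd : t • d = d ∧ u • d = d) (xc : x • c = c) (xd : x • d = d)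
    (hx : x * t = t * x) : x = 1 ∨ x = t ∨ x = u ∨ x = t * u :=
  let ⟨_, F'⟩ := h.fr_move F hcd hc.1 hd.1 hc.2 hd.2
  F'.cent xc xd hx

omit [Finite G] in
theorem comm_of_sq' {x y : G} (hx : x * x = 1) (hy : y * y = 1) (h : x * y * (x * y) = 1) :
    x * y = y * x := by
  rw [← inv_of_sq h, mul_inv_rev, inv_of_sq hx, inv_of_sq hy]

omit [Finite G] in
theorem card_coset (X : Subgroup G) {P : G → Prop} {g : G} (Y : Subgroup G)
    (h : ∀ x, P x ↔ g⁻¹ * x ∈ X ⊓ Y) : Nat.card {x // P x} = Nat.card ↥(X ⊓ Y) :=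
  Nat.card_congr ((Equiv.mulLeft g⁻¹).subtypeEquiv h)

omit [Finite G] in
theorem Par.invol_fpf (h : Par G Ω f e) (he : Even e) {a b : Ω} {t u k s : G} (F : Fr a b t u k)
    (hs : s ∈ Yt t u) (s2 : s * s = 1) {p : Ω} (hp : t • p = p ∧ u • p = p) (sp : s • p = p) :
    s = 1 ∨ s = t ∨ s = u ∨ s = t * u := by
  obtain ⟨q, hq, hq', sq⟩ := KOS.second_fix (S := fun c : Ω => t • c = c ∧ u • c = c) (w := s)
    (fun c hc => F.Yt_fix hs hc) (fun c _ => by rw [← mul_smul, s2, one_smul])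
    (by rw [h.ce F]; exact he) hp sp
  exact h.inV_two F hq hq' hp sq sp (F.mem_Yt.1 hs).1

theorem Par.fpf_sq (h : Par G Ω f e) (hP : TyP G Ω) (he : Even e) {a b : Ω} {t u k x : G}
    (F : Fr a b t u k) (hx : x ∈ Yt t u) (xa : x • a = b)
    (hf : ∀ c : Ω, t • c = c → u • c = c → x • c ≠ c) : x * x = 1 := by
  obtain ⟨s, s2, sa, -⟩ := h.exists_s0 hP F
  have h1 : Nat.card {y : G // y ∈ Yt t u ∧ y • a = b} = (e - 1) * 4 := by
    rw [← (h.card_Y F).2]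
    exact card_coset (g := x) _ _ fun y => and_congr
      ((Subgroup.mul_mem_cancel_left _ (inv_mem hx)).symm)
      (show _ ↔ (x⁻¹ * y) • a = a by rw [mul_smul, inv_smul_eq_iff, xa])
  have h2 := card_double (fun (y : {y : G // (y ∈ Yt t u ∧ y • a = b) ∧
      ∃ c : Ω, t • c = c ∧ u • c = c ∧ y • c = c})
      (c : {c : Ω // ((t • c = c ∧ u • c = c) ∧ c ≠ a) ∧ c ≠ b}) => y.1 • c.1 = c.1) (m := 1) (n := 4)
    (fun y => by
      obtain ⟨y, ⟨hy, ya⟩, c, tc, uc, yc⟩ := y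
      refine card_eq_one_of ⟨c, ⟨⟨tc, uc⟩, fun e => F.ne (by rw [← ya, ← e, yc])⟩,
        fun e => F.ne (MulAction.injective y (show y • a = y • b by rw [ya, ← e, yc]))⟩ fun d => ⟨fun hd => ?_, ?_⟩
      · by_contra hne
        have := h.inV_two F (fun e => hne (Subtype.ext e)) d.2.1.1 ⟨tc, uc⟩ hd yc (F.mem_Yt.1 hy).1
        exact F.ne ((F.v_fix this F.ta F.ua).symm.trans ya)
      · rintro rfl; exact yc)
    (fun c => by
      obtain ⟨c, ⟨hc, ca⟩, cb⟩ := c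
      obtain ⟨k', F'⟩ := h.fr_move F ca.symm F.ta hc.1 F.ua hc.2
      obtain ⟨g, hg, ga, gc⟩ := h.two_Y F' cb.symm ⟨F.tb, F.ub⟩ hc
      rw [← F'.card_CH (X := Yt t u) inf_le_left F.t_mem_Yt F.u_mem_Yt,
        ← card_coset (g := g) (P := fun y => y ∈ Yt t u ∧ y • a = b ∧ y • c = c) _ _ fun y =>
          and_congr ((Subgroup.mul_mem_cancel_left _ (inv_mem hg)).symm) (show _ ↔
            (g⁻¹ * y) • a = a ∧ (g⁻¹ * y) • c = c by
            rw [mul_smul, mul_smul, inv_smul_eq_iff, inv_smul_eq_iff, ga, gc])]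
      exact Nat.card_congr
        { toFun := fun y => ⟨y.1.1, y.1.2.1.1, y.1.2.1.2, y.2⟩
          invFun := fun y => ⟨⟨y.1, ⟨y.2.1, y.2.2.1⟩, c, hc.1, hc.2, y.2.2.2⟩, y.2.2.2⟩
          left_inv := fun _ => rfl
          right_inv := fun _ => rfl })
  have h3 := card_and_ne (P := fun c : Ω => t • c = c ∧ u • c = c) ⟨F.ta, F.ua⟩
  have h4 := card_and_ne (P := fun c : Ω => (t • c = c ∧ u • c = c) ∧ c ≠ a)
    ⟨⟨F.tb, F.ub⟩, F.ne.symm⟩
  have h5 := card_and_split (fun y : G => y ∈ Yt t u ∧ y • a = b)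
    fun y => ∃ c : Ω, t • c = c ∧ u • c = c ∧ y • c = c
  rw [h.ce F] at h3
  refine (of_card_sub_le (P := fun g : G => g * g = 1 ∧ g • a = b)
    (Q := fun y => (y ∈ Yt t u ∧ y • a = b) ∧ ¬ ∃ c : Ω, t • c = c ∧ u • c = c ∧ y • c = c)
    (fun g hg => ?_) (by rw [hP.card_swap F s2 sa]; omega)
    ⟨⟨hx, xa⟩, fun ⟨c, tc, uc, xc⟩ => hf c tc uc xc⟩).1
  have hY : g ∈ Yt t u :=
    F.mem_Yt.2 ⟨hP F hg.1 hg.2, Or.inl (conj_eq_iff.2 (hP.cu F hg.1 hg.2))⟩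
  exact ⟨⟨hY, hg.2⟩, fun ⟨c, tc, uc, gc⟩ =>
    F.ne ((F.v_fix (h.invol_fpf he F hY hg.1 ⟨tc, uc⟩ gc) F.ta F.ua).symm.trans hg.2)⟩

/-- the preimage of the Frobenius kernel of the group induced by `Yt t u` on the fixed points of
the four-group -/
theorem Par.exists_B (h : Par G Ω f e) (hP : TyP G Ω) (he : Even e) {a b : Ω} {t u k : G}
    (F : Fr a b t u k) : ∃ B : Subgroup G, (∀ x, x ∈ B ↔ x ∈ Yt t u ∧
      ((x = 1 ∨ x = t ∨ x = u ∨ x = t * u) ∨ ∀ c : Ω, t • c = c → u • c = c → x • c ≠ c)) ∧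
      (∀ x ∈ B, x * x = 1) ∧ (∀ x ∈ B, ∀ y ∈ B, x * y = y * x) ∧ Nat.card B = e * 4 := by
  have sq : ∀ x, x ∈ Yt t u ∧ ((x = 1 ∨ x = t ∨ x = u ∨ x = t * u) ∨
      ∀ c : Ω, t • c = c → u • c = c → x • c ≠ c) → x * x = 1 := by
    rintro x ⟨hx, hv | hf⟩
    · exact F.v_sq hv
    · have hc := F.Yt_fix hx ⟨F.ta, F.ua⟩
      obtain ⟨k', F'⟩ := h.fr_move F (hf a F.ta F.ua).symm F.ta hc.1 F.ua hc.2
      exact h.fpf_sq hP he F' hx rfl hf
  let B : Subgroup G :=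
    { carrier := {x | x ∈ Yt t u ∧ ((x = 1 ∨ x = t ∨ x = u ∨ x = t * u) ∨
        ∀ c : Ω, t • c = c → u • c = c → x • c ≠ c)}
      one_mem' := ⟨one_mem _, Or.inl (Or.inl rfl)⟩
      inv_mem' := fun {x} hx => by rw [inv_of_sq (sq x hx)]; exact hx
      mul_mem' := fun {x y} hx hy => ⟨mul_mem hx.1 hy.1, by
        by_cases hc : ∀ c : Ω, t • c = c → u • c = c → (x * y) • c ≠ c
        · exact Or.inr hc
        push Not at hc
        obtain ⟨c, tc, uc, e1⟩ := hc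
        have e2 : y • c = x • c := by
          rw [mul_smul, ← eq_inv_smul_iff, inv_of_sq (sq x hx)] at e1; exact e1
        by_cases e3 : x • c = c
        · exact Or.inl (F.v_mul (hx.2.resolve_right fun hf => hf c tc uc e3)
            (hy.2.resolve_right fun hf => hf c tc uc (e2.trans e3)))
        · refine Or.inl (h.inV_two F e3 (F.Yt_fix hx.1 ⟨tc, uc⟩) ⟨tc, uc⟩ ?_ e1
            (F.mem_Yt.1 (mul_mem hx.1 hy.1)).1)
          rw [mul_smul, swap_back (sq y hy) e2]⟩ }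
  refine ⟨B, fun _ => Iff.rfl, sq, fun x hx y hy => comm_of_sq' (sq x hx) (sq y hy)
    (sq _ (B.mul_mem hx hy)), ?_⟩
  have := card_trans B (fun c : Ω => t • c = c ∧ u • c = c) (a := a)
    (fun x hx => F.Yt_fix hx.1 ⟨F.ta, F.ua⟩) fun c hc => by
      by_cases e1 : c = a
      · exact ⟨1, one_mem _, by rw [one_smul, e1]⟩
      obtain ⟨k', F'⟩ := h.fr_move F (Ne.symm e1) F.ta hc.1 F.ua hc.2
      obtain ⟨s, s2, sa, -⟩ := h.exists_s0 hP F'
      have hY : s ∈ Yt t u :=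
        F.mem_Yt.2 ⟨hP F' s2 sa, Or.inl (conj_eq_iff.2 (hP.cu F' s2 sa))⟩
      exact ⟨s, ⟨hY, Or.inr fun d td ud sd =>
        e1 (sa.symm.trans (F.v_fix (h.invol_fpf he F hY s2 ⟨td, ud⟩ sd) F.ta F.ua))⟩, sa⟩
  rw [← this, h.ce F]
  congr 1
  refine F.card_V (S := fun x => x ∈ B ⊓ stabilizer G a) fun x =>
    ⟨fun hx => hx.1.2.resolve_right fun hf => hf a F.ta F.ua hx.2, fun hx =>
      ⟨⟨F.mem_Yt.2 ⟨F.v_comm hx (by simp), Or.inl (conj_eq_iff.2 (F.v_comm hx (by simp)))⟩,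
        Or.inl hx⟩, F.v_fix hx F.ta F.ua⟩⟩

theorem Par.e_pow (h : Par G Ω f e) (hP : TyP G Ω) (he : Even e) : ∃ j, e = 2 ^ j := by
  obtain ⟨a, b, t, u, k, F⟩ := h.fr
  obtain ⟨B, -, h1, -, h2⟩ := h.exists_B hP he F
  have : IsPGroup 2 B := fun x => ⟨1, Subtype.ext (by simpa [sq] using h1 x x.2)⟩
  obtain ⟨n, hn⟩ := IsPGroup.iff_card.1 this
  obtain ⟨j, -, hj⟩ := (Nat.dvd_prime_pow Nat.prime_two).1 (show e ∣ 2 ^ n from ⟨4, by omega⟩)
  exact ⟨j, hj⟩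

end Cfsg.Agent.TA4
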