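import Cfsg.Agent.TA4.Ker
import Cfsg.Agent.TA4.PCom
import Cfsg.Agent.H75.ZStar
import Cfsg.Prelude.Def_CaseTheorems

set_option autoImplicit false

namespace Cfsg.Agent.TA4

open Cfsg MulAction H12

variable {G Ω : Type*} [Group G] [MulAction G Ω] [Finite G] [Finite Ω] {f e : ℕ}

theorem Par.p3_odd (h : Par G Ω f e) (hP : TyP G Ω) (h3 : P3 G Ω) (hf : Odd f) :
    ∃ J : G, orderOf J = 2 ∧ Subgroup.centralizer ({J} : Set G) ⊔ oddCore G = ⊤ := by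
  have hn : Nat.card {_c : Ω // True} = Nat.card Ω := Nat.card_congr (Equiv.subtypeUnivEquiv fun _ => trivial)
  have h1 : ∀ y : G, y * y = 1 ∧ y ≠ 1 ∧ ¬ D Ω y → ∃ c : Ω, ∀ d, True ∧ y • d = d ↔ d = c :=
    fun y hy => pc_one (fun _ _ => trivial) hy.1 (by
      rw [hn, Nat.odd_iff, h.n_mod]; exact Nat.odd_iff.1 hf) fun c d _ _ hc hd =>
      by_contra fun e => hy.2.2 ⟨hy.2.1, hy.1, c, d, e, hc, hd⟩
  have h2 := fun a : Ω => count_one_fixed (fun y : G => y * y = 1 ∧ y ≠ 1 ∧ ¬ D Ω y)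
    (fun _ : Ω => True) (fun _ _ _ _ => trivial) h1 (k := 1) (fun c d _ _ hcd => by
      obtain ⟨t, u, k, F⟩ := h.exists_fr hcd
      obtain ⟨s, s2, sa, sk⟩ := h.exists_s0 hP F
      refine card_eq_one_of s fun g => Iff.trans ?_ (h.p3_iff hP h3 F s2 sa sk)
      exact ⟨fun e => ⟨e.1.1, e.2, e.1.2.2⟩, fun e => ⟨⟨e.1, fun e' => hcd (by
        rw [← e.2.1, e', one_smul]), e.2.2⟩, e.2.1⟩⟩)
    (by have := h.f_lt_n; have := h.two_le_e; have := h.e_le_f; omega) (a := a) trivial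
  obtain ⟨a, b, t, u, k, F⟩ := h.fr
  obtain ⟨s, s2, sa, sk⟩ := h.exists_s0 hP F
  have hs : s * s = 1 ∧ s ≠ 1 ∧ ¬ D Ω s := ⟨s2, fun e => F.ne (by rw [← sa, e, one_smul]),
    ((h.p3_iff hP h3 F s2 sa sk).2 rfl).2.2⟩
  have ho : orderOf s = 2 := orderOf_eq_prime (by rw [sq, s2]) hs.2.1
  refine ⟨s, ho, H75.centralizer_sup_oddCore_of_isolated ho fun g hg => ?_⟩
  obtain ⟨c, hc⟩ := h1 s hs
  have sc := ((hc c).2 rfl).2
  exact pc_eq (h2 c) ⟨⟨H42.conj_mul_self s2 g, by simpa using hs.2.1,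
    fun e => hs.2.2 (D_conj_iff.1 e)⟩, (hc _).1 ⟨trivial, fix_of_comm hg.eq sc⟩⟩ ⟨hs, sc⟩

theorem Par.pa_odd (h : Par G Ω f e) (hP : TyP G Ω) (h0 : S0D G Ω) (he : e = f) (hf : Odd f) :
    False := by
  obtain ⟨a, b, t, u, k, F⟩ := h.fr
  obtain ⟨s, s2, sa, sk⟩ := h.exists_s0 hP F
  obtain ⟨c, d, s', k', F'⟩ := h.frD (h0 F s2 sa sk)
  have st := hP F s2 sa
  have nV : ∀ y : G, y • a = b → ¬ (y = 1 ∨ y = t ∨ y = u ∨ y = t * u) := fun y ya hy =>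
    F.ne ((F.v_fix hy F.ta F.ua).symm.trans ya)
  have h1 : ∀ y : G, y * y = 1 ∧ y * t = t * y ∧ ¬ (y = 1 ∨ y = t ∨ y = u ∨ y = t * u) →
      ∃ c : Ω, ∀ d, t • d = d ∧ y • d = d ↔ d = c := fun y hy =>
    pc_one (fun _ hc => fix_of_comm hy.2.1 hc) hy.1 (by rwa [h.cf F.Dt]) fun c d tc td hc hd =>
      by_contra fun e => hy.2.2 (h.inVA he F hy.1 e tc td hc hd)
  obtain ⟨p, hp⟩ := h1 s ⟨s2, st, nV s sa⟩
  obtain ⟨tp, sp⟩ := (hp p).2 rfl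
  obtain ⟨x, sx, tx⟩ : ∃ x : Ω, s • x = x ∧ t • x ≠ x := by
    by_contra hn
    push Not at hn
    exact F'.ne (((hp c).1 ⟨hn c F'.ta, F'.ta⟩).trans ((hp d).1 ⟨hn d F'.tb, F'.tb⟩).symm)
  have sx' := fix_of_comm st.symm sx
  obtain ⟨k'', F''⟩ := h.fr_move F' tx.symm sx sx' (h.fixA he F' sx) (h.fixA he F' sx')
  have h2 := count_one_fixed (fun y : G => y * y = 1 ∧ y * t = t * y ∧
    ¬ (y = 1 ∨ y = t ∨ y = u ∨ y = t * u)) (fun c : Ω => t • c = c)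
    (fun y hy c hc => fix_of_comm hy.2.1 hc) h1 (k := 4) (fun c d tc td hcd => by
      obtain ⟨k₁, F₁⟩ := h.fr_move F hcd tc td (h.fixA he F tc) (h.fixA he F td)
      obtain ⟨s₁, s₁2, s₁a, -⟩ := h.exists_s0 hP F₁
      rw [← hP.card_swap F₁ s₁2 s₁a]
      exact card_sub_congr fun g => ⟨fun e => ⟨e.1.1, e.2⟩, fun e => ⟨⟨e.1, hP F₁ e.1 e.2,
        fun e' => hcd ((F₁.v_fix e' tc F₁.ua).symm.trans e.2)⟩, e.2⟩⟩)
    (by rw [h.cf F.Dt, ← he]; exact h.two_le_e) tp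
  have h4 : ∀ v : G, (v = 1 ∨ v = t ∨ v = u ∨ v = t * u) → v • x = x → v = 1 := fun v hv vx =>
    by_contra fun e => tx ((h.fixV he F hv e).1 vx)
  have h3 := of_card_sub_le (P := fun g : G => g * g = 1 ∧ g • a = b) (fun g hg => by
    refine (⟨⟨hg.1, hP F hg.1 hg.2, nV g hg.2⟩, ?_⟩ : (g * g = 1 ∧ g * t = t * g ∧
      ¬ (g = 1 ∨ g = t ∨ g = u ∨ g = t * u)) ∧ g • p = p)
    have up := h.fixA he F tp
    rcases (hP.swap_iff F s2 sa).1 hg with rfl | rfl | rfl | rfl <;> simp only [mul_smul, tp, up, sp])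
    (h2.trans (hP.card_swap F s2 sa).symm).le (x := s') ⟨⟨F'.u2, (hP.cu F'' F.t2 rfl).symm,
      fun e => F'.u1 (h4 _ e F''.ua)⟩, h.fixA he F' sp⟩
  refine F'.tu1 (h4 _ (F.inV ?_ ?_ F'.tu2) F''.tua)
  · rw [mul_smul, h3.2, swap_back s2 sa]
  · rw [mul_smul, swap_back h3.1 h3.2, sa]

theorem Par.pa_even (h : Par G Ω f e) (hP : TyP G Ω) (h0 : S0D G Ω) (he : e = f) (hf : Even f) :
    False := by
  obtain ⟨a, b, t, u, k, F⟩ := h.fr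
  obtain ⟨s, s2, sa, sk⟩ := h.exists_s0 hP F
  have hs := h0 F s2 sa sk
  obtain ⟨c, d, s', k', F'⟩ := h.frD hs
  obtain ⟨j, hj⟩ := h.e_pow hP (he ▸ hf)
  obtain ⟨p, sp, kp⟩ : ∃ p : Ω, s • p = p ∧ k • p = p := by
    by_contra hn
    have := card_fix_modEq (x := k) Nat.prime_three (fun c : Ω => s • c = c)
      (fun c hc => fix_of_comm sk.symm hc) fun c _ => by rw [F.h_pow, one_smul]
    have i : IsEmpty {c : Ω // s • c = c ∧ k • c = c} := ⟨fun c => hn ⟨c, c.2⟩⟩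
    rw [h.cf hs, ← he, hj, Nat.card_of_isEmpty (α := {c : Ω // s • c = c ∧ k • c = c})] at this
    exact absurd (Nat.prime_three.dvd_of_dvd_pow (Nat.modEq_zero_iff_dvd.1 this)) (by norm_num)
  have ks : s' * k = k * s' := by
    rcases h.normA he F' sk.symm with e | e
    · exact (conj_eq_iff.1 e).symm
    have e1 : k * (k * s' * k⁻¹) * k⁻¹ = s' := by
      rw [e, ← conj_mul, conj_eq_iff.2 sk.symm, e, F'.ttu]
    have e2 : k * (k * (k * s' * k⁻¹) * k⁻¹) * k⁻¹ = k * k * k * s' * (k * k * k)⁻¹ := by group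
    rw [e1, e, F.h3, one_mul, inv_one, mul_one] at e2
    exact absurd e2 F'.tu_u
  have h1 : ∀ y : G, y * y = 1 ∧ y ≠ 1 ∧ y * k = k * y → ∀ c d : Ω, k • c = c → k • d = d →
      y • c = c → y • d = d → c = d := fun y hy c d kc kd yc yd => by_contra fun hcd => by
    obtain ⟨u', k', F₁⟩ := h.fr1 hcd yc yd hy.1 hy.2.1
    exact F.h1 (by rw [← F.h3, F₁.v_sq (F₁.cent kc kd hy.2.2.symm), one_mul])
  have hsY : s * s = 1 ∧ s ≠ 1 ∧ s * k = k * s := ⟨s2, hs.1, sk⟩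
  have ho : Odd (Nat.card {c : Ω // k • c = c}) := by
    have := card_fix_modEq (x := s) Nat.prime_two (fun c : Ω => k • c = c)
      (fun c hc => fix_of_comm sk hc) fun c _ => by rw [sq, s2, one_smul]
    rw [card_eq_one_of (P := fun c => k • c = c ∧ s • c = c) p fun c =>
      ⟨fun e => h1 s hsY c p e.1 kp e.2 sp, fun e => e ▸ ⟨kp, sp⟩⟩] at this
    exact Nat.odd_iff.2 this
  have h2 := count_one_fixed (fun y : G => y * y = 1 ∧ y ≠ 1 ∧ y * k = k * y)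
    (fun c : Ω => k • c = c) (fun y hy c hc => fix_of_comm hy.2.2 hc)
    (fun y hy => pc_one (fun _ hc => fix_of_comm hy.2.2 hc) hy.1 ho (h1 y hy)) (k := 1)
    (fun q r kq kr hqr => by
      obtain ⟨t₁, u₁, k₁, F₁⟩ := h.exists_fr hqr
      obtain ⟨s₁, s₁2, s₁a, s₁k⟩ := h.exists_s0 hP F₁
      have c1 : s₁ * k = k * s₁ := by
        obtain ⟨v, hv, e⟩ := F₁.all k kq kr
        have c2 : Commute s₁ v := hP.cv F₁ s₁2 s₁a hv
        have c3 : Commute s₁ k₁ := s₁k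
        rcases e with rfl | rfl | rfl
        exacts [c2, c2.mul_right c3, c2.mul_right c3.inv_right]
      refine card_eq_one_of s₁ fun y => ⟨fun e => ?_, fun e => e ▸ ⟨⟨s₁2, fun e' => hqr (by
        rw [← s₁a, e', one_smul]), c1⟩, s₁a⟩⟩
      obtain ⟨v, hv, rfl⟩ : ∃ v, (v = 1 ∨ v = t₁ ∨ v = u₁ ∨ v = t₁ * u₁) ∧ y = s₁ * v := by
        rcases (hP.swap_iff F₁ s₁2 s₁a).1 ⟨e.1.1, e.2⟩ with rfl | rfl | rfl | rfl
        exacts [⟨1, by simp⟩, ⟨t₁, by simp⟩, ⟨u₁, by simp⟩, ⟨t₁ * u₁, by simp⟩]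
      by_contra hne
      refine hqr (h1 v ⟨F₁.v_sq hv, fun e' => hne (by rw [e', mul_one]), mul_left_cancel (a := s₁) ?_⟩
        q r kq kr (F₁.v_fix hv F₁.ta F₁.ua) (F₁.v_fix hv F₁.tb F₁.ub))
      rw [← mul_assoc, e.1.2.2, ← mul_assoc, ← c1, mul_assoc])
    (Finite.one_lt_card_iff_nontrivial.2 ⟨⟨a, F.ha⟩, ⟨b, F.hb⟩, fun e => F.ne (congrArg Subtype.val e)⟩) kp
  exact F'.ut (pc_eq h2 ⟨⟨F'.u2, F'.u1, ks⟩, h.fixA he F' sp⟩ ⟨hsY, sp⟩)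

theorem Par.pa_false (h : Par G Ω f e) (hP : TyP G Ω) (h0 : S0D G Ω) (he : e = f) : False :=
  (Nat.even_or_odd f).elim (h.pa_even hP h0 he) (h.pa_odd hP h0 he)

end Cfsg.Agent.TA4
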