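/-
Two-point stabilisers `A₄`, type `S₄`, the four-group fixes an even number of points.
-/
import Cfsg.Agent.TA4.Types
import Cfsg.Agent.H9.Transport

set_option autoImplicit false

namespace Cfsg.Agent.TA4

open Cfsg MulAction H12 Subgroup

variable {G Ω : Type*} [Group G] [MulAction G Ω] [Finite G] [Finite Ω] {f e : ℕ}

namespace TS

omit [Finite G] [Finite Ω] in
/-- no element interchanging two points centralises the four-group -/
theorem no_swap (h : A4 G Ω) (hS : TyS G Ω) {a b : Ω} {t u k x : G} (F : Fr a b t u k) (xa : x • a = b)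
    (xb : x • b = a) (xt : x * t = t * x) (xu : x * u = u * x) : False := by
  obtain ⟨s, hs, sa, st⟩ := h.exists_swap F
  refine hS F hs.2.1 sa ⟨st, ?_⟩
  have key : ∀ v, (v = 1 ∨ v = t ∨ v = u ∨ v = t * u) → x = s * v → s * u = u * s := fun v hv e => by
    rw [e, mul_assoc, F.v_comm hv (w := u) (by simp), ← mul_assoc, ← mul_assoc] at xu
    exact mul_right_cancel xu
  rcases F.coset sa (swap_back hs.2.1 sa) xa xb st xt with e | e | e | e
  exacts [key 1 (by simp) (by simpa using e), key t (by simp) e, key u (by simp) e, key _ (by simp) e]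

theorem comm_u (h : Par G Ω f e) (he : Even e) {a b : Ω} {t u k g : G} (F : Fr a b t u k) (hg : g ∈ Yt t u)
    (ga : g • a = a) : g * u = u * g := by
  by_contra hn
  have e1 := (F.mem_Yt.1 hg).2.resolve_left fun e => hn (conj_eq_iff.1 e)
  have i2 : (Ct u).relIndex (Yt t u ⊓ stabilizer G a) = 2 := index_eq_two_iff.2 ⟨⟨g, hg, ga⟩, fun x => by
    obtain ⟨x, hx, xa⟩ := x
    obtain ⟨h1, h2⟩ := F.mem_Yt.1 hx
    have e2 : x * g * u * (x * g)⁻¹ = t * (x * u * x⁻¹) := by
      rw [show x * g * u * (x * g)⁻¹ = x * (g * u * g⁻¹) * x⁻¹ by group, e1, ← conj_mul, conj_eq_iff.2 h1]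
    simp only [mem_subgroupOf, mem_Ct, coe_mul, ← conj_eq_iff, e2]
    rcases h2 with h2 | h2 <;> rw [h2]
    · exact .inr ⟨rfl, F.tu_u⟩
    · exact .inl ⟨F.ttu, F.tu_u⟩⟩
  have c1 := ((Ct u).subgroupOf (Yt t u ⊓ stabilizer G a)).card_mul_index
  rw [← relIndex, i2, (h.card_Y F).2, ← card_map_of_injective (Yt t u ⊓ stabilizer G a).subtype_injective,
    subgroupOf_map_subtype] at c1
  have c2 := F.card_CH (X := Ct u ⊓ (Yt t u ⊓ stabilizer G a)) (fun x hx => hx.2.1.1)
    ⟨mem_Ct.2 F.comm, F.t_mem_Yt, F.ta⟩ ⟨mem_Ct.2 rfl, F.u_mem_Yt, F.ua⟩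
  have c3 := c2 ▸ card_dvd_of_le (inf_le_left : Ct u ⊓ (Yt t u ⊓ stabilizer G a) ⊓ Hs G a b ≤ _)
  have := h.two_le_e
  obtain ⟨m, rfl⟩ := he
  omega

omit [Finite G] [Finite Ω] in
theorem third (h : Par G Ω f e) (he : e ≠ 2) {a b : Ω} {t u k : G} (F : Fr a b t u k) :
    ∃ c, c ≠ a ∧ c ≠ b ∧ t • c = c ∧ u • c = c := by
  by_contra hn
  refine he ((h.ce F).symm.trans (card_eq_two_of F.ne fun c => ⟨fun hc => ?_, ?_⟩))
  · by_contra e
    exact hn ⟨c, (not_or.1 e).1, (not_or.1 e).2, hc⟩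
  · rintro (rfl | rfl)
    exacts [⟨F.ta, F.ua⟩, ⟨F.tb, F.ub⟩]

theorem e_two (h : Par G Ω f e) (hS : TyS G Ω) (he : Even e) : e = 2 := by
  by_contra hn
  obtain ⟨a, b, t, u, k, F⟩ := h.fr
  obtain ⟨c, ca, cb, tc, uc⟩ := third h hn F
  obtain ⟨k1, F1⟩ := h.fr_move F ca tc F.ta uc F.ua
  obtain ⟨y, hy, yc, ya⟩ := h.two_Y F1 cb ⟨tc, uc⟩ ⟨F.tb, F.ub⟩
  have m := F.Yt_fix hy ⟨F.tb, F.ub⟩
  obtain ⟨k2, F2⟩ := h.fr_move F (c := b) (d := y • b) (fun e => F.ne (MulAction.injective y (ya.trans e)))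
    F.tb m.1 F.ub m.2
  obtain ⟨z, hz, zb, zy⟩ := h.two_Y F2 F.ne.symm ⟨F.tb, F.ub⟩ ⟨F.ta, F.ua⟩
  exact no_swap h.toA4 hS F (x := z * y) (by rw [mul_smul, ya, zb]) (by rw [mul_smul, zy])
    (Commute.mul_left (F.mem_Yt.1 hz).1 (F.mem_Yt.1 hy).1) (Commute.mul_left (comm_u h he F2 hz zb) (comm_u h he F1 hy yc))

theorem f_four (h : Par G Ω f 2) (hS : TyS G Ω) (hf : 2 < f) : f = 4 := by
  obtain ⟨a, b, t, u, k, F⟩ := h.fr
  obtain ⟨s, hs, sa⟩ := h.bp_swap hf F
  have cm : ∀ y, BP Ω t y → y • a = b → y * t = t * y := fun y hy _ => by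
    obtain ⟨c, d, k', F'⟩ := h.fr_bp F.Dt hy
    exact F'.comm.symm
  have s2 := hs.2.2.1
  have st := cm s hs sa
  have := h.count_bp F
  rw [card_eq_two_of (a := s) (b := s * t) (fun e => F.t1 (left_eq_mul.1 e)) fun y => ⟨fun hy =>
    (hS.swap_iff F s2 sa st).1 ⟨hy.1.2.2.1, hy.2, cm y hy.1 hy.2⟩, ?_⟩] at this
  · omega
  rintro (rfl | rfl)
  · exact ⟨hs, sa⟩
  · exact ⟨hS.u_conj F s2 sa st ▸ hs.conj' F.comm.symm, F.swap_mul sa (by simp)⟩

theorem not_28 (h : Par G Ω 4 e) (hS : TyS G Ω) : False := by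
  have p7 : Fact (Nat.Prime 7) := ⟨by norm_num⟩
  have hn : Nat.card Ω = 28 := h.n_S hS
  have cG : Nat.card G = 9072 := by rw [h.card_G, hn]
  obtain ⟨a, -, -⟩ := h.fr
  have tr : ∀ K : Subgroup G, K.Normal → K ≠ ⊥ → 28 ∣ Nat.card K := fun K hK ne => by
    have := card_trans K (fun _ : Ω => True) (a := a) (fun _ _ => trivial) fun c _ => h.normal_trans hK ne a c
    rw [Nat.card_congr (Equiv.subtypeUnivEquiv fun _ => trivial), hn] at this
    exact Dvd.intro _ this
  obtain ⟨P⟩ : Nonempty (Sylow 7 G) := inferInstance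
  have cP : Nat.card P = 7 := by
    obtain ⟨k, hk⟩ := IsPGroup.iff_card.1 P.isPGroup'
    have h1 := (P : Subgroup G).card_mul_index
    have h2 := P.not_dvd_index
    rw [hk, cG] at h1
    rcases k with _ | _ | k
    · omega
    · exact hk
    · exact absurd (Dvd.intro (7 ^ k * (P : Subgroup G).index) (by rw [← h1]; ring) : 49 ∣ 9072) (by decide)
  have hC : Odd (Nat.card (centralizer ((P : Subgroup G) : Set G))) := Nat.not_even_iff_odd.1 fun ev => by
    obtain ⟨x, hx⟩ := exists_prime_orderOf_dvd_card' 2 ev.two_dvd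
    have o := orderOf_eq_prime_iff.1 ((orderOf_coe x).trans hx)
    have := card_dvd_of_le (show (P : Subgroup G) ≤ Ct (x : G) from fun y hy => mem_Ct.2 (x.2 y hy))
    rw [cP, h.card_C (h.allD_of_S hS _ (by rw [← pow_two]; exact o.1) o.2)] at this
    omega
  have : IsCyclic P := isCyclic_of_prime_card cP
  have key := card_dvd_of_injective _ (QuotientGroup.kerLift_injective (P : Subgroup G).normalizerMonoidHom)
  rw [normalizerMonoidHom_ker, ← index, IsCyclic.card_mulAut, cP, Nat.totient_prime p7.out] at key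
  have h1 := ((centralizer ((P : Subgroup G) : Set G)).subgroupOf (normalizer ((P : Subgroup G) : Set G))).card_mul_index
  rw [Nat.card_congr (subgroupOfEquivOfLe (centralizer_le_normalizer _)).toEquiv] at h1
  have h4 : ¬ 4 ∣ Nat.card (normalizer ((P : Subgroup G) : Set G)) := fun d => by
    rw [← h1] at d
    have := ((Nat.coprime_two_left.2 hC).pow_left 2).dvd_of_dvd_mul_left d |>.trans key
    omega
  have h2 := (normalizer ((P : Subgroup G) : Set G)).card_mul_index
  have h3 := card_sylow_modEq_one 7 G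
  rw [P.card_eq_index_normalizer] at h3
  obtain ⟨m, hm⟩ := cP ▸ card_dvd_of_le (le_normalizer (H := (P : Subgroup G)))
  have h5 : m ∣ 1296 := Dvd.intro (normalizer ((P : Subgroup G) : Set G)).index (by rw [hm, cG] at h2; linarith)
  have h6 : m = 1 ∨ m = 162 := by
    change (normalizer ((P : Subgroup G) : Set G)).index % 7 = 1 % 7 at h3
    rw [hm, cG] at h2
    rw [hm] at h4
    have : m ∈ Nat.divisors 1296 := Nat.mem_divisors.2 ⟨h5, by norm_num⟩
    rw [show Nat.divisors 1296 = {1, 2, 3, 4, 6, 8, 9, 12, 16, 18, 24, 27, 36, 48, 54, 72, 81, 108, 144, 162, 216,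
      324, 432, 648, 1296} by decide +kernel] at this
    simp only [Finset.mem_insert, Finset.mem_singleton] at this
    generalize (normalizer ((P : Subgroup G) : Set G)).index = i at h2 h3
    rcases this with rfl | rfl | rfl | rfl | rfl | rfl | rfl | rfl | rfl | rfl | rfl | rfl | rfl | rfl | rfl | rfl |
      rfl | rfl | rfl | rfl | rfl | rfl | rfl | rfl | rfl <;> omega
  rcases h6 with rfl | rfl
  · have e1 : (P : Subgroup G) = normalizer ((P : Subgroup G) : Set G) :=
      eq_of_le_of_card_ge le_normalizer (by rw [hm, cP])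
    have hc := MonoidHom.ker_transferSylow_isComplement' P (e1.ge.trans (le_centralizer _))
    have c := hc.card_mul_card
    rw [cP, cG] at c
    have := tr (MonoidHom.transferSylow P (e1.ge.trans (le_centralizer _))).ker inferInstance fun e => by
      rw [e, card_bot] at c; omega
    omega
  · refine h4 ((Dvd.dvd.trans (by norm_num) (tr _ (normalCore_normal _) fun e => ?_)).trans
      (card_dvd_of_le (normalCore_le _)))
    rw [normalCore_eq_ker, MonoidHom.ker_eq_bot_iff] at e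
    have := card_dvd_of_injective _ e
    rw [Nat.card_perm, ← index, cG, show (normalizer ((P : Subgroup G) : Set G)).index = 8 by
      rw [hm, cG] at h2; omega] at this
    exact absurd this (by decide)

end TS

theorem Par.s_even (h : Par G Ω f e) (hS : TyS G Ω) (he : Even e) :
    Nat.card Ω = 6 ∧ Nonempty (G ≃* alternatingGroup (Fin 6)) := by
  classical
  obtain rfl := TS.e_two h hS he
  rcases h.e_le_f.eq_or_lt with rfl | hf
  · have hn : Nat.card Ω = 6 := h.n_S hS
    let ε : Ω ≃ Fin 6 := Finite.equivFinOfCardEq hn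
    have := h.faithful
    exact ⟨hn, H9.nonempty_equiv_alternatingGroup (ε.permCongrHom.toMonoidHom.comp (toPermHom G Ω))
      (ε.permCongrHom.injective.comp toPerm_injective) (by rw [h.card_G, hn]; rfl)⟩
  · obtain rfl := TS.f_four h hS hf
    exact (TS.not_28 h hS).elim

end Cfsg.Agent.TA4
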